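import Groth.Agent.Sga3B.MT.Glue

/-!
# Maximal tori over the open image of an étale chart

* `exists_maximalTorus_open`: a closed maximal torus `t : T ⟶ bc f G`, `f : S' ⟶ S` étale, which
  agrees with itself on the overlap `S' ×_S S'`, descends to a maximal torus over the image of `f`.
* `exists_opens_of_openImmersion`: from an open immersion `v : V ⟶ S` to an open of `S`.
-/

set_option autoImplicit false
universe u

open CategoryTheory MonoidalCategory CartesianMonoidalCategory MonObj GrpObj AlgebraicGeometry Limits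

namespace Groth.Agent.Sga3.H803.DescNhd

open Groth.Agent.Sga3B Groth.Agent.Sga3B.BcPts Groth.Agent.Sga3B.Parab Groth.Agent.Sga3B.ResAlg
open Groth.Agent.Sga3B.MT Groth.Agent.Sga3B.BcIso

variable {S V S' : Scheme.{u}} {G : Over S} {T : Over S'}

/-- restriction of `t : T ⟶ bc (f' ≫ v) G` to `V` -/
noncomputable def rs (f' : S' ⟶ V) (v : V ⟶ S) (t : T ⟶ Red.bc (f' ≫ v) G) :
    T ⟶ Red.bc f' (Red.bc v G) := t ≫ (Over.pullbackComp f' v).hom.app G

lemma rs_left (f' : S' ⟶ V) (v : V ⟶ S) (t : T ⟶ Red.bc (f' ≫ v) G) :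
    (rs f' v t).left ≫ pullback.fst (Red.bc v G).hom f' ≫ pullback.fst G.hom v =
      t.left ≫ pullback.fst G.hom (f' ≫ v) := by
  rw [rs, Over.comp_left, Category.assoc]
  exact congrArg (t.left ≫ ·) (pullbackComp_hom_fst f' G)

lemma symm_left (v : V ⟶ S) (X : Over V) (g : X ⟶ Red.bc v G) :
    ((bcEquiv v X G).symm g).left = g.left ≫ pullback.fst G.hom v := by
  simp [bcEquiv, Adjunction.homEquiv_counit]

/-- the point of `S'` over `S` -/
noncomputable def ovr (f' : S' ⟶ V) (v : V ⟶ S) {X : Over V} (a : X ⟶ Over.mk f') :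
    (Over.map v).obj X ⟶ Over.mk (f' ≫ v) :=
  Over.homMk a.left (by
    have := Over.w a
    simp only [Over.mk_hom] at this
    simp [← this])

lemma memAt_rs (f' : S' ⟶ V) (v : V ⟶ S) (t : T ⟶ Red.bc (f' ≫ v) G) {X : Over V}
    (a : X ⟶ Over.mk f') (g : X ⟶ Red.bc v G) :
    MemAt (rs f' v t) a g ↔ MemAt t (ovr f' v a) ((bcEquiv v X G).symm g) := by
  rw [memAt_iff', memAt_iff']
  constructor
  · rintro ⟨x, h1, h2⟩
    refine ⟨x, h1, ?_⟩
    rw [symm_left, ← h2, ← rs_left]
    simp only [Category.assoc]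
  · rintro ⟨x, h1, h2⟩
    refine ⟨x, h1, ?_⟩
    apply pullback.hom_ext
    · rw [symm_left, ← rs_left] at h2
      simp only [Category.assoc] at h2 ⊢
      exact h2
    · have h3 : (rs f' v t).left ≫ pullback.fst (Red.bc v G).hom f' ≫ pullback.snd G.hom v =
          T.hom ≫ f' := by
        have := Over.w (rs f' v t)
        rw [← this, Category.assoc]
        congr 1
        exact pullback.condition
      simp only [Category.assoc]
      rw [h3, ← Category.assoc, h1]
      have h4 : a.left ≫ f' = X.hom := Over.w a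
      exact h4.trans (Over.w g).symm

lemma isClosedImmersion_rs (f' : S' ⟶ V) (v : V ⟶ S) (t : T ⟶ Red.bc (f' ≫ v) G)
    [IsClosedImmersion t.left] : IsClosedImmersion (rs f' v t).left := by
  have h2 : IsIso ((Over.pullbackComp f' v).hom.app G).left :=
    inferInstanceAs (IsIso ((Over.forget _).map ((Over.pullbackComp f' v).hom.app G)))
  rw [rs, Over.comp_left]
  infer_instance

theorem isMaximalTorus_rs [GrpObj G] [GrpObj T] (f' : S' ⟶ V) (v : V ⟶ S)
    (t : T ⟶ Red.bc (f' ≫ v) G) (h : Red.IsMaximalTorus t) : Red.IsMaximalTorus (rs f' v t) := by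
  refine AlgBc.isMaximalTorus_of_arrow (Iso.refl _) (BcIso.bcCompIso f' v G) ?_ h
  rw [BcNat.und_bcCompIso f' v G]
  exact (Category.id_comp _).symm

theorem exists_maximalTorus_image [GrpObj G] [GrpObj T] (f' : S' ⟶ V) (v : V ⟶ S) [Etale f']
    [Surjective f'] (t : T ⟶ Red.bc (f' ≫ v) G) (ht : Red.IsMaximalTorus t)
    [IsClosedImmersion t.left]
    (hc : ∀ (X : Over S) (a b : X ⟶ Over.mk (f' ≫ v)) (g : X ⟶ G), MemAt t a g → MemAt t b g) :
    ∃ (P : Over V) (_ : GrpObj P) (p : P ⟶ Red.bc v G),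
      Red.IsMaximalTorus p ∧ IsClosedImmersion p.left := by
  have hmt := isMaximalTorus_rs f' v t ht
  have hmon : IsMonHom (rs f' v t) := hmt.1
  have hcl := isClosedImmersion_rs f' v t
  have hC : Compat (fun _ : PUnit.{u+1} => rs f' v t) := by
    intro _ _ X a b g H
    rw [memAt_rs] at H ⊢
    exact hc _ _ _ _ H
  obtain ⟨P, hP, p, hp, hpc, hcomp⟩ := exists_closed_subgroup_of_family
    (f := fun _ : PUnit.{u+1} => f')
    ⟨fun _ => inferInstance, fun _ => inferInstance, fun s => ⟨PUnit.unit, f'.surjective s⟩⟩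
    (fun _ => rs f' v t) hC
  have hm : Mono p := Sga3C.ClosedSub.mono_of_left p
  refine ⟨P, hP, p, isMaximalTorus_of_family (fun _ : PUnit.{u+1} => f') (fun _ => inferInstance)
    (fun s => ⟨PUnit.unit, f'.surjective s⟩) p hp hm fun j => ?_, hpc⟩
  obtain ⟨e, he⟩ := hcomp j
  refine AlgBc.isMaximalTorus_of_arrow e (Iso.refl _) ?_ hmt
  rw [he]
  exact Category.comp_id _

/-- **Descent to the open image.** -/
theorem exists_maximalTorus_open [GrpObj G] [GrpObj T] (f : S' ⟶ S) [Etale f]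
    (t : T ⟶ Red.bc f G) (ht : Red.IsMaximalTorus t) [IsClosedImmersion t.left]
    (hc : ∀ (X : Over S) (a b : X ⟶ Over.mk f) (g : X ⟶ G), MemAt t a g → MemAt t b g)
    (U : S.Opens) (hU : (U : Set S) = Set.range f) :
    ∃ (P : Over (U : Scheme.{u})) (_ : GrpObj P) (p : P ⟶ Red.bc U.ι G),
      Red.IsMaximalTorus p ∧ IsClosedImmersion p.left := by
  obtain ⟨f', rfl⟩ : ∃ f' : S' ⟶ (U : Scheme.{u}), f' ≫ U.ι = f :=
    ⟨IsOpenImmersion.lift U.ι f (by simp [hU]), IsOpenImmersion.lift_fac _ _ _⟩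
  have h1 : Etale f' := Etale.of_comp f' U.ι
  have h2 : Surjective f' := by
    refine ⟨fun x => ?_⟩
    have hx : U.ι x ∈ Set.range (f' ≫ U.ι) := by rw [← hU]; exact x.2
    obtain ⟨y, hy⟩ := hx
    refine ⟨y, ?_⟩
    apply U.ι.isOpenEmbedding.injective
    simpa using hy
  exact exists_maximalTorus_image f' U.ι t ht hc

/-- Maximal tori over an open immersion give maximal tori over an open. -/
theorem exists_opens_of_openImmersion [GrpObj G] (v : V ⟶ S) [IsOpenImmersion v] (P : Over V)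
    [GrpObj P] (p : P ⟶ Red.bc v G) (hp : Red.IsMaximalTorus p) :
    ∃ (T : Over (v.opensRange : Scheme.{u})) (_ : GrpObj T) (i : T ⟶ Red.bc v.opensRange.ι G),
      Red.IsMaximalTorus i := by
  let e : V ≅ (v.opensRange : Scheme.{u}) := v.isoOpensRange
  have he : e.inv ≫ v = v.opensRange.ι := by simp [e]
  have h1 := AlgBc.isMaximalTorus_bc e.inv hp
  let E : Grp.mk (Red.bc e.inv (Red.bc v G)) ≅ Grp.mk (Red.bc v.opensRange.ι G) :=
    (bcCompIso e.inv v G).symm ≪≫ bcCongrIso he G
  have := h1.1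
  have hE : IsMonHom (RedIso.und E).hom := inferInstance
  exact ⟨Red.bc e.inv P, inferInstance, (Over.pullback e.inv).map p ≫ (RedIso.und E).hom,
    AlgBc.isMaximalTorus_of_arrow (Iso.refl _) E (Category.id_comp _).symm h1⟩

end Groth.Agent.Sga3.H803.DescNhd
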