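import Groth.Agent.Sga3.H803.ChartAt
import Groth.Agent.Sga3.H803.DescNhd

/-!
# Maximal tori of reductive group schemes, Zariski locally on the base

From étale local splittings of reductive groups over affine schemes.
-/

set_option autoImplicit false
universe u

open CategoryTheory MonoidalCategory CartesianMonoidalCategory MonObj GrpObj AlgebraicGeometry Limits
open TensorProduct
open Groth.Agent.Sga3B.Cell Groth.Agent.Sga3B.MT

namespace Groth.Agent.Sga3.H803.ZarMain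

open Groth.Agent.Sga3B Groth.Agent.Sga3B.BcPts Groth.Agent.Sga3B.Parab Groth.Agent.Sga3B.ResAlg
open Groth.Agent.Books.AffBridge Groth.Agent.Sga3B.BcIso

/-- The torus of a chart agrees with itself on the overlap. -/
theorem compat_chart {R : Type u} [CommRing R] {G : Over (Spec (CommRingCat.of R))} [GrpObj G]
    {A : Type u} [CommRing A] [Algebra R A] [PtGrp R A] [Algebra.Smooth R A] (hdom : MT.GeomDom R A)
    {Q : GPts G A} {ξ : InfAut R A R} (K : Chart Q ξ)
    (X : Over (Spec (CommRingCat.of R))) (a b : X ⟶ Over.mk K.f) (g : X ⟶ G) (H : MemAt K.t a g) :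
    MemAt K.t b g := by
  have : Mono K.t := K.isMaximalTorus.2.1
  refine MemAt.of_aff b g fun C _ c x => ?_
  obtain ⟨_, ⟨e⟩⟩ := exists_specOver C c
  have H' : MemAt K.t (e.hom ≫ x ≫ a) (e.hom ≫ x ≫ g) := (H.comp x).comp e.hom
  obtain ⟨φ, hφ⟩ := exists_algHom K.f_eq (e.hom ≫ x ≫ a)
  obtain ⟨φ', hφ'⟩ := exists_algHom K.f_eq (e.hom ≫ x ≫ b)
  obtain ⟨h, hh⟩ := (Q.pt C).surjective (e.hom ≫ x ≫ g)
  rw [← hh, K.memAt_iff φ _ hφ] at H'
  have H2 : MemAt K.t (e.hom ≫ x ≫ b) (e.hom ≫ x ≫ g) := by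
    rw [← hh, K.memAt_iff φ' _ hφ']
    exact Chart.torAt_of_torAt hdom K K φ' φ H'
  have H3 := H2.comp e.inv
  rwa [Iso.inv_hom_id_assoc, Iso.inv_hom_id_assoc] at H3

/-- **Maximal tori over a neighbourhood of a point of an affine base.** -/
theorem exists_maximalTorus_nhd_affine {R : Type u} [CommRing R]
    {G : Over (Spec (CommRingCat.of R))} [GrpObj G] (hG : Red.IsReductive G)
    (hsplit : ∀ s, IsomPin848.SplitNear G s) (p : ↥(Spec (CommRingCat.of R))) :
    ∃ U : (Spec (CommRingCat.of R)).Opens, p ∈ U ∧ ∃ (P : Over (U : Scheme.{u})) (_ : GrpObj P)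
      (i : P ⟶ Red.bc U.ι G), Red.IsMaximalTorus i ∧ IsClosedImmersion i.left := by
  obtain ⟨A, _, _, _, _, hdom, Q, ξ, K, hp⟩ := ChartAt.exists_chart_of_isReductive hG hsplit p
  have := K.etale_f
  let U : (Spec (CommRingCat.of R)).Opens := ⟨Set.range K.f, K.f.isOpenMap.isOpen_range⟩
  obtain ⟨P, hP, i, hi, hic⟩ := DescNhd.exists_maximalTorus_open K.f K.t K.isMaximalTorus
    (compat_chart hdom K) U rfl
  exact ⟨U, hp, P, hP, i, hi, hic⟩

/-- **Maximal tori Zariski locally on the base**, from étale local splittings over affine schemes. -/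
theorem exists_maximalTorus_nhd (hsplit : ∀ {R : Type u} [CommRing R]
      (G : Over (Spec (CommRingCat.of R))) [GrpObj G], Red.IsReductive G →
      ∀ s, IsomPin848.SplitNear G s)
    {S : Scheme.{u}} {G : Over S} [GrpObj G] (hG : Red.IsReductive G) (s : S) :
    ∃ U : S.Opens, s ∈ U ∧ ∃ (T : Over (U : Scheme.{u})) (_ : GrpObj T) (i : T ⟶ Red.bc U.ι G),
      Red.IsMaximalTorus i := by
  obtain ⟨_, ⟨V, hV, rfl⟩, hsV, -⟩ :=
    S.isBasis_affineOpens.exists_subset_of_mem_open (a := s) (Set.mem_univ s) isOpen_univ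
  obtain ⟨x, hx⟩ := hV.range_fromSpec.ge hsV
  obtain ⟨W, hxW, P, hP, i, hi, -⟩ := exists_maximalTorus_nhd_affine (R := Γ(S, V))
    (AlgBc.isReductive_bc hV.fromSpec hG) (hsplit (R := Γ(S, V)) _ (AlgBc.isReductive_bc hV.fromSpec hG)) x
  let w : (W : Scheme.{u}) ⟶ S := W.ι ≫ hV.fromSpec
  let E : Grp.mk (Red.bc W.ι (Red.bc hV.fromSpec G)) ≅ Grp.mk (Red.bc w G) :=
    (bcCompIso W.ι hV.fromSpec G).symm
  have h1 : Red.IsMaximalTorus (i ≫ (RedIso.und E).hom) :=
    AlgBc.isMaximalTorus_of_arrow (Iso.refl _) E (Category.id_comp _).symm hi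
  obtain ⟨T, hT, t, ht⟩ := DescNhd.exists_opens_of_openImmersion w P _ h1
  refine ⟨w.opensRange, ⟨⟨x, hxW⟩, ?_⟩, T, hT, t, ht⟩
  change w _ = s
  rw [← hx]
  simp [w]

end Groth.Agent.Sga3.H803.ZarMain
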