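import Groth.Agent.Sga3.H518.TorsSplit
import Groth.Agent.Sga3B.DSPts
import Mathlib.RingTheory.Etale.StandardEtale
import Mathlib.AlgebraicGeometry.Morphisms.Etale

/-!
# Étale-locally the `n`-torsion of a split torus is constant, for `n` invertible

* `Gen ψ n` : every section of the `n`-torsion of `T` is Zariski-locally `ψ γ` for some `γ`.
* `exists_etale_torsion` : `Red.DS B (ℤ^r)` has such a `ψ`, with `Γ = (ℤ/n)^r`, over a finite étale surjective cover.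
* `gen_mapSec`, `gen_bcSec` : isomorphisms and base change.
* `Gen.comm` : a point commuting with the `ψ γ` commutes with the `n`-torsion.
-/

set_option autoImplicit false
universe u
open CategoryTheory MonoidalCategory CartesianMonoidalCategory MonObj GrpObj AlgebraicGeometry Limits

namespace Groth.Agent.Sga3.H803.EtTors

open Groth.Agent.Sga3.H518.TorsSplit Groth.Agent.Sga3B.DSPts

section ring

/-- `B[X]/Φ_n` is étale over `B` if `n` is invertible in `B`. -/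
theorem etale_cyclotomic (n : ℕ) (B : Type u) [CommRing B] (hB : IsUnit (n : B)) :
    Algebra.Etale B (AdjoinRoot (Polynomial.cyclotomic n B)) := by
  have hsep : (Polynomial.cyclotomic n B).Separable := by
    have h1 : (Polynomial.X ^ n - Polynomial.C ((1 : Bˣ) : B)).Separable :=
      Polynomial.separable_X_pow_sub_C_unit 1 hB
    rw [Units.val_one, Polynomial.C_1] at h1
    exact h1.of_dvd (Polynomial.cyclotomic.dvd_X_pow_sub_one n B)
  obtain ⟨a, b, hab⟩ := hsep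
  let P : StandardEtalePair B :=
    { f := Polynomial.cyclotomic n B
      monic_f := Polynomial.cyclotomic.monic n B
      g := 1
      cond := ⟨b, a, 1, by rw [one_pow, ← hab]; ring⟩ }
  have e1 : P.Ring ≃ₐ[B] Localization.Away (AdjoinRoot.mk P.f P.g) := P.equivAwayAdjoinRoot
  have h2 : Algebra.Etale B (Localization.Away (AdjoinRoot.mk P.f P.g)) := Algebra.Etale.of_equiv e1
  have h3 : AdjoinRoot.mk P.f P.g = 1 := map_one _
  rw [h3] at h2
  let e2 : AdjoinRoot P.f ≃ₐ[AdjoinRoot P.f] Localization.Away (1 : AdjoinRoot P.f) :=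
    IsLocalization.atOne _ _
  exact Algebra.Etale.of_equiv (e2.symm.restrictScalars B)

end ring

variable {S S' : Scheme.{u}} {T T' G : Over S} [GrpObj T] [GrpObj T'] [GrpObj G] {Γ : Type*} [Group Γ]

/-- Every section of the `n`-torsion of `T` is Zariski-locally one of the `ψ γ`. -/
def Gen (ψ : Γ →* (𝟙_ (Over S) ⟶ T)) (n : ℕ) : Prop :=
  ∀ (X : Over S) (t : X ⟶ T), t ^ n = 1 → ∀ x : X.left, ∃ (V : X.left.Opens) (γ : Γ), x ∈ V ∧
    (Over.homMk V.ι rfl : Over.mk (V.ι ≫ X.hom) ⟶ X) ≫ t = toUnit (Over.mk (V.ι ≫ X.hom)) ≫ ψ γ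

/-- A finite étale cover with constant torsion. -/
theorem exists_etale_torsion (r n : ℕ) (hn : 0 < n) (B : Type u) [CommRing B] (hB : IsUnit (n : B)) :
    ∃ (B' : Type u) (_ : CommRing B') (v : Spec (CommRingCat.of B') ⟶ Spec (CommRingCat.of B))
      (ψ : Multiplicative (Fin r → ZMod n) →*
        (𝟙_ (Over (Spec (CommRingCat.of B'))) ⟶ Red.DS (Spec (CommRingCat.of B')) (Fin r → ℤ))),
      Etale v ∧ Surjective v ∧ Gen ψ n := by
  have : NeZero n := ⟨hn.ne'⟩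
  let B' := AdjoinRoot (Polynomial.cyclotomic n B)
  let ζ : B'ˣ := Units.ofPowEqOne _ n (root_pow n B) hn.ne'
  have hζ : ζ ^ n = 1 := Units.pow_ofPowEqOne (root_pow n B) hn.ne'
  have hprim : ∀ (K : Type u) [Field K] (φ : B' →+* K), IsPrimitiveRoot (φ (ζ : B')) n := fun K _ φ =>
    isPrimitiveRoot n B hB φ
  have hn' : IsUnit (n : B') := by
    have := hB.map (algebraMap B B')
    rwa [map_natCast] at this
  have hff := faithfullyFlat n B hn
  have het := etale_cyclotomic n B hB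
  refine ⟨B', inferInstance, Spec.map (CommRingCat.ofHom (algebraMap B B')), psi ζ hζ r, ?_, ?_,
    fun X t ht x => exists_open ζ hζ hprim hn' X t ht x⟩
  · rw [HasRingHomProperty.Spec_iff (P := @Etale)]
    exact (RingHom.etale_algebraMap (R := B) (S := B')).2 het
  · exact ⟨PrimeSpectrum.comap_surjective_of_faithfullyFlat⟩

/-- Transport of sections. -/
noncomputable def mapSec (f : T ⟶ T') [IsMonHom f] (ψ : Γ →* (𝟙_ (Over S) ⟶ T)) : Γ →* (𝟙_ (Over S) ⟶ T') where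
  toFun γ := ψ γ ≫ f
  map_one' := by rw [map_one, MonObj.one_comp]
  map_mul' a b := by rw [map_mul, MonObj.mul_comp]

lemma mapSec_apply (f : T ⟶ T') [IsMonHom f] (ψ : Γ →* (𝟙_ (Over S) ⟶ T)) (γ : Γ) :
    mapSec f ψ γ = ψ γ ≫ f := rfl

lemma comp_pow' {X : Over S} (t : X ⟶ T) (f : T ⟶ T') [IsMonHom f] (n : ℕ) : (t ^ n) ≫ f = (t ≫ f) ^ n := by
  induction n with
  | zero => rw [pow_zero, pow_zero, MonObj.one_comp]
  | succ n hn => rw [pow_succ, pow_succ, MonObj.mul_comp, hn]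

theorem gen_mapSec (e : T ≅ T') [IsMonHom e.hom] {ψ : Γ →* (𝟙_ (Over S) ⟶ T)} {n : ℕ} (h : Gen ψ n) :
    Gen (mapSec e.hom ψ) n := by
  intro X t ht x
  obtain ⟨V, γ, hx, hV⟩ := h X (t ≫ e.inv) (by rw [← comp_pow', ht, MonObj.one_comp]) x
  refine ⟨V, γ, hx, ?_⟩
  rw [mapSec_apply, ← Category.assoc, ← hV, Category.assoc, Category.assoc, Iso.inv_hom_id, Category.comp_id]

/-- Base change of sections. -/
noncomputable def bcSec (f : S' ⟶ S) (ψ : Γ →* (𝟙_ (Over S) ⟶ T)) : Γ →* (𝟙_ (Over S') ⟶ Red.bc f T) where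
  toFun γ := bcEquiv f (𝟙_ _) T (toUnit _ ≫ ψ γ)
  map_one' := by rw [map_one, MonObj.comp_one, map_one]
  map_mul' a b := by rw [map_mul, MonObj.comp_mul, map_mul]

lemma toUnit_comp_bcSec (f : S' ⟶ S) (ψ : Γ →* (𝟙_ (Over S) ⟶ T)) (γ : Γ) (X : Over S') :
    toUnit X ≫ bcSec f ψ γ = bcEquiv f X T (toUnit _ ≫ ψ γ) := by
  change toUnit X ≫ bcEquiv f (𝟙_ _) T (toUnit _ ≫ ψ γ) = _
  rw [bcEquiv_naturality, ← Category.assoc, toUnit_unique ((Over.map f).map (toUnit X) ≫ toUnit _) (toUnit _)]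

lemma bcSec_comp (f : S' ⟶ S) (ψ : Γ →* (𝟙_ (Over S) ⟶ T)) (γ : Γ) (i : T ⟶ T') :
    bcSec f ψ γ ≫ (Over.pullback f).map i = bcEquiv f (𝟙_ _) T' (toUnit _ ≫ ψ γ ≫ i) := by
  change bcEquiv f (𝟙_ _) T (toUnit _ ≫ ψ γ) ≫ (Over.pullback f).map i = _
  rw [bcEquiv_comp, Category.assoc]

theorem gen_bcSec (f : S' ⟶ S) {ψ : Γ →* (𝟙_ (Over S) ⟶ T)} {n : ℕ} (h : Gen ψ n) : Gen (bcSec f ψ) n := by
  intro X t ht x
  obtain ⟨V, γ, hx, hV⟩ := h ((Over.map f).obj X) ((bcEquiv f X T).symm t)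
    (by rw [← map_pow, ht, map_one]) x
  refine ⟨V, γ, hx, ?_⟩
  rw [toUnit_comp_bcSec]
  apply (bcEquiv f _ T).symm.injective
  rw [← bcEquiv_symm_naturality, MulEquiv.symm_apply_apply]
  apply Over.OverMorphism.ext
  exact congrArg CommaMorphism.left hV

omit [GrpObj T'] in
/-- **A point commuting with the `ψ γ` commutes with the `n`-torsion.** -/
theorem Gen.comm {i : T ⟶ G} {ψ : Γ →* (𝟙_ (Over S) ⟶ T)} {n : ℕ} (h : Gen ψ n) {X : Over S}
    {g : X ⟶ G} (hg : ∀ γ, g * (toUnit X ≫ ψ γ ≫ i) = (toUnit X ≫ ψ γ ≫ i) * g) {X' : Over S}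
    (x : X' ⟶ X) (t : X' ⟶ T) (ht : t ^ n = 1) : (x ≫ g) * (t ≫ i) = (t ≫ i) * (x ≫ g) := by
  apply Over.OverMorphism.ext
  refine Scheme.hom_ext_of_forall _ _ fun p => ?_
  obtain ⟨V, γ, hp, hV⟩ := h X' t ht p
  refine ⟨V, hp, ?_⟩
  have h1 : (Over.homMk V.ι rfl : Over.mk (V.ι ≫ X'.hom) ⟶ X') ≫ ((x ≫ g) * (t ≫ i)) =
      (Over.homMk V.ι rfl : Over.mk (V.ι ≫ X'.hom) ⟶ X') ≫ ((t ≫ i) * (x ≫ g)) := by
    rw [MonObj.comp_mul, MonObj.comp_mul, reassoc_of% hV]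
    have h2 := congrArg (fun k => ((Over.homMk V.ι rfl : Over.mk (V.ι ≫ X'.hom) ⟶ X') ≫ x) ≫ k) (hg γ)
    simp only [MonObj.comp_mul] at h2
    simp only [← Category.assoc] at h2 ⊢
    rw [toUnit_unique ((((Over.homMk V.ι rfl : Over.mk (V.ι ≫ X'.hom) ⟶ X') ≫ x) ≫ toUnit X)) (toUnit _)] at h2
    exact h2
  exact congrArg CommaMorphism.left h1

end Groth.Agent.Sga3.H803.EtTors
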