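import Groth.Agent.Sga3B.AlgBc2
import Groth.Agent.Sga3B.SplitBc264
import Groth.Prelude.Def_SGA3x

/-!
# Base change of Cartan subgroups

* `isCentralizerOf_of_arrow` : invariance of centralizers under isomorphism.
* `isCartan_bc` : Cartan subgroups are stable under base change with algebraic residue extensions (e.g. étale).
-/

set_option autoImplicit false
universe u
open CategoryTheory MonoidalCategory CartesianMonoidalCategory MonObj GrpObj AlgebraicGeometry Limits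

namespace Groth.Agent.Sga3.H803.CartBc

open Groth.Agent.Sga3B Groth.Agent.Sga3B.RedIso Groth.Agent.Sga3B.BcNat Groth.Agent.Sga3B.ResAlg
  Groth.Agent.Sga3B.AlgBc

variable {S S' : Scheme.{u}}

section arrow

variable {H G Z H₁ G₁ Z₁ : Over S} [GrpObj G] [GrpObj Z] [GrpObj G₁] [GrpObj Z₁]

/-- Invariance of centralizers under isomorphism. -/
theorem isCentralizerOf_of_arrow {i : H ⟶ G} {j : Z ⟶ G} {i₁ : H₁ ⟶ G₁} {j₁ : Z₁ ⟶ G₁} (eH : H ≅ H₁)
    (eG : G ≅ G₁) [IsMonHom eG.hom] (eZ : Z ≅ Z₁) [IsMonHom eZ.hom] (hi : i ≫ eG.hom = eH.hom ≫ i₁)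
    (hj : j ≫ eG.hom = eZ.hom ≫ j₁) (h : Red.IsCentralizerOf i j) : Red.IsCentralizerOf i₁ j₁ := by
  obtain ⟨h1, h2, h3⟩ := h
  have e1 : j₁ = eZ.inv ≫ j ≫ eG.hom := by rw [hj, Iso.inv_hom_id_assoc]
  have e2 : ∀ {X : Over S} (t : X ⟶ H₁), t ≫ i₁ = (t ≫ eH.inv ≫ i) ≫ eG.hom := fun t => by
    rw [Category.assoc, Category.assoc, hi, Iso.inv_hom_id_assoc]
  have hinv : IsMonHom eZ.inv := inferInstance
  refine ⟨by rw [e1]; infer_instance, by rw [e1]; infer_instance, fun X g => ?_⟩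
  have key : (∃ z : X ⟶ Z₁, z ≫ j₁ = g) ↔ ∃ z : X ⟶ Z, z ≫ j = g ≫ eG.inv := by
    constructor
    · rintro ⟨z, rfl⟩
      exact ⟨z ≫ eZ.inv, by rw [e1]; simp⟩
    · rintro ⟨z, hz⟩
      exact ⟨z ≫ eZ.hom, by rw [Category.assoc, ← hj, ← Category.assoc, hz]; simp⟩
  rw [key, h3]
  have e3 : ∀ {X' : Over S} (x : X' ⟶ X) (t : X' ⟶ H₁),
      ((x ≫ g ≫ eG.inv) * (t ≫ eH.inv ≫ i)) ≫ eG.hom = (x ≫ g) * (t ≫ i₁) ∧
      ((t ≫ eH.inv ≫ i) * (x ≫ g ≫ eG.inv)) ≫ eG.hom = (t ≫ i₁) * (x ≫ g) := fun x t => by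
    rw [MonObj.mul_comp, MonObj.mul_comp, ← e2]
    simp
  constructor
  · intro hh X' x t
    have h4 := hh X' x (t ≫ eH.inv)
    rw [Category.assoc] at h4
    rw [← (e3 x t).1, ← (e3 x t).2, h4]
  · intro hh X' x t
    have h4 := hh X' x (t ≫ eH.hom)
    rw [← (e3 x _).1, ← (e3 x _).2, cancel_mono] at h4
    simpa using h4

end arrow

section field

variable {K K' : Type u} [Field K] [Field K']

/-- Base change of Cartan subgroups along an isomorphism of fields. -/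
lemma isCartanOver_bc (θ : Spec (CommRingCat.of K') ⟶ Spec (CommRingCat.of K)) [IsIso θ]
    {C G : Over (Spec (CommRingCat.of K))} [GrpObj C] [GrpObj G] {c : C ⟶ G} (h : SGA3x.IsCartanOver K c) :
    SGA3x.IsCartanOver K' ((Over.pullback θ).map c) := by
  obtain ⟨h1, h2, T, _, i, hi, hc⟩ := h
  exact ⟨inferInstance, inferInstance, Red.bc θ T, inferInstance, (Over.pullback θ).map i,
    isMaximalTorus_bc θ hi, SplitBc264.isCentralizerOf_bc θ hc⟩

lemma isCartanOver_of_arrow {C G C₁ G₁ : Over (Spec (CommRingCat.of K))} [GrpObj C] [GrpObj G] [GrpObj C₁]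
    [GrpObj G₁] {c : C ⟶ G} {c₁ : C₁ ⟶ G₁} (φ : Grp.mk C ≅ Grp.mk C₁) (ψ : Grp.mk G ≅ Grp.mk G₁)
    (hc : c ≫ (und ψ).hom = (und φ).hom ≫ c₁) (h : SGA3x.IsCartanOver K c) : SGA3x.IsCartanOver K c₁ := by
  obtain ⟨h1, h2, T, _, i, hi, hcent⟩ := h
  have e1 : c₁ = (und φ).inv ≫ c ≫ (und ψ).hom := by rw [hc, Iso.inv_hom_id_assoc]
  refine ⟨?_, ?_, T, inferInstance, i ≫ (und ψ).hom, ?_, ?_⟩
  · rw [e1]; infer_instance
  · rw [e1]; infer_instance
  · exact AlgBc.isMaximalTorus_of_arrow (Iso.refl _) ψ (by exact (Category.id_comp _).symm) hi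
  · exact isCentralizerOf_of_arrow (Iso.refl T) (und ψ) (und φ) (by simp) hc hcent

end field

/-- **Cartan subgroups are stable under base change with algebraic residue extensions.** -/
theorem isCartan_bc (f : S' ⟶ S) [AlgRes f] {C G : Over S} [GrpObj C] [GrpObj G] {c : C ⟶ G}
    (h : SGA3x.IsCartan c) : SGA3x.IsCartan ((Over.pullback f).map c) := by
  obtain ⟨h1, h2, h3, h4⟩ := h
  refine ⟨inferInstance, inferInstance, inferInstanceAs (Smooth (pullback.snd C.hom f)), fun s' => ?_⟩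
  obtain ⟨θ, hθ, hh⟩ := exists_iso_geomPt f s'
  have h5 := isCartanOver_bc θ (h4 (f s'))
  exact isCartanOver_of_arrow (fibIso hh C).symm (fibIso hh G).symm (fib_arrow hh c) h5

end Groth.Agent.Sga3.H803.CartBc
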