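import Groth.Agent.Sga3.H803.CartBc
import Groth.Agent.Sga3.H798.MaxTorCent
import Groth.Agent.Sga3.H784.NAMain
import Groth.Agent.Sga3B.MaxTorBc636

/-!
# Arbitrary base change of Cartan subgroups and of maximal tori
-/

set_option autoImplicit false
universe u
open CategoryTheory MonoidalCategory CartesianMonoidalCategory MonObj GrpObj AlgebraicGeometry Limits

namespace Groth.Agent.Sga3.H803.CartBcAny

open Groth.Agent.Sga3B Groth.Agent.Sga3B.RedIso Groth.Agent.Sga3B.BcNat Groth.Agent.Sga3B.ResAlg
  Groth.Agent.Sga3B.AlgBc CartBc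

variable {S S' : Scheme.{u}}

/-- Base change of Cartan subgroups along an extension of algebraically closed fields. -/
lemma isCartanOver_bc {K K' : Type u} [Field K] [IsAlgClosed K] [Field K'] [IsAlgClosed K']
    (θ : Spec (CommRingCat.of K') ⟶ Spec (CommRingCat.of K))
    {C G : Over (Spec (CommRingCat.of K))} [GrpObj C] [GrpObj G] [LocallyOfFiniteType G.hom] {c : C ⟶ G}
    (h : SGA3x.IsCartanOver K c) : SGA3x.IsCartanOver K' ((Over.pullback θ).map c) := by
  obtain ⟨h1, h2, T, _, i, hi, hc⟩ := h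
  exact ⟨inferInstance, inferInstance, Red.bc θ T, inferInstance, (Over.pullback θ).map i,
    (H784.NAMain.isMaximalTorus_pullback_iff θ i hi.1 hi.2.2.1).2 hi, SplitBc264.isCentralizerOf_bc θ hc⟩

/-- **Cartan subgroups are stable under arbitrary base change.** -/
theorem isCartan_bc (f : S' ⟶ S) {C G : Over S} [GrpObj C] [GrpObj G] [LocallyOfFiniteType G.hom] {c : C ⟶ G}
    (h : SGA3x.IsCartan c) : SGA3x.IsCartan ((Over.pullback f).map c) := by
  obtain ⟨h1, h2, h3, h4⟩ := h
  refine ⟨inferInstance, inferInstance, inferInstanceAs (Smooth (pullback.snd C.hom f)), fun s' => ?_⟩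
  obtain ⟨θ, hh⟩ := MaxTorBc636.exists_geomPt f s'
  have hlft : LocallyOfFiniteType (Red.geomFibre (f s') G).hom :=
    inferInstanceAs (LocallyOfFiniteType (pullback.snd G.hom (Red.geomPt (f s'))))
  have h5 := isCartanOver_bc θ (h4 (f s'))
  exact isCartanOver_of_arrow (fibIso hh C).symm (fibIso hh G).symm (fib_arrow hh c) h5

end Groth.Agent.Sga3.H803.CartBcAny
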