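import Groth.Agent.Sga3B.AlgBc2
import Groth.Agent.Sga3B.DSPts
import Groth.Agent.Sga3B.InfConjFam
import Groth.Prelude.Def_SGA3x

/-!
# Centralizers of conjugates of a torus, universally

* `conj g` : conjugation by a section `g`, `conjIso g`;
* `CentPt i c g` : for `g : V ⟶ G`, the subgroup `c : C ⟶ G` is over `V` the centralizer of the conjugate of `i` by `g`;
* `centPt_bc_iff`, `isCentralizerOf_iff_centPt` : compatibility with base change;
* `centPt_of_cover`, `centPt_sigma` : `CentPt` is local on `V`.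
-/

set_option autoImplicit false
set_option linter.dupNamespace false
universe u
open CategoryTheory MonoidalCategory CartesianMonoidalCategory MonObj GrpObj AlgebraicGeometry Limits

namespace Groth.Agent.Sga3.H803.CentPt

open Groth.Agent.Sga3B.DSPts Groth.Agent.Sga3B

variable {S S' : Scheme.{u}}

section conj

variable {G : Over S} [GrpObj G]

/-- Conjugation by a section. -/
noncomputable def conj (g : 𝟙_ (Over S) ⟶ G) : G ⟶ G := (toUnit G ≫ g) * 𝟙 G * (toUnit G ≫ g)⁻¹

lemma comp_conj (g : 𝟙_ (Over S) ⟶ G) {X : Over S} (x : X ⟶ G) :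
    x ≫ conj g = (toUnit X ≫ g) * x * (toUnit X ≫ g)⁻¹ := by
  rw [conj, MonObj.comp_mul, MonObj.comp_mul, GrpObj.comp_inv, Category.comp_id, ← Category.assoc,
    toUnit_unique (x ≫ toUnit G) (toUnit X)]

instance isMonHom_conj (g : 𝟙_ (Over S) ⟶ G) : IsMonHom (conj g) := by
  refine InfConjFam.isMonHom_of_mul _ fun T d d' => ?_
  rw [comp_conj, comp_conj, comp_conj]
  group

lemma conj_mul (g h : 𝟙_ (Over S) ⟶ G) : conj h ≫ conj g = conj (g * h) := by
  rw [comp_conj, conj, conj, MonObj.comp_mul]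
  group

lemma conj_one : conj (1 : 𝟙_ (Over S) ⟶ G) = 𝟙 G := by
  rw [conj, MonObj.comp_one]
  group

/-- Conjugation by a section as an isomorphism. -/
@[simps] noncomputable def conjIso (g : 𝟙_ (Over S) ⟶ G) : G ≅ G where
  hom := conj g
  inv := conj g⁻¹
  hom_inv_id := by rw [conj_mul, inv_mul_cancel, conj_one]
  inv_hom_id := by rw [conj_mul, mul_inv_cancel, conj_one]

theorem isMaximalTorus_conj {T : Over S} [GrpObj T] (g : 𝟙_ (Over S) ⟶ G) (i : T ⟶ G)
    (h : Red.IsMaximalTorus i) : Red.IsMaximalTorus (i ≫ conj g) := by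
  have : IsMonHom (conjIso g).hom := isMonHom_conj g
  exact AlgBc.isMaximalTorus_of_arrow (Iso.refl _) (Grp.mkIso' (conjIso g)) (by exact (Category.id_comp _).symm) h

end conj

variable {T G C : Over S} [GrpObj G]

/-- Over `V`, the subgroup `c` is the centralizer of the conjugate of `i` by `g`. -/
def CentPt (i : T ⟶ G) (c : C ⟶ G) {V : Over S} (g : V ⟶ G) : Prop :=
  ∀ (X : Over S) (v : X ⟶ V) (y : X ⟶ G), (∃ z : X ⟶ C, z ≫ c = y) ↔
    ∀ (X' : Over S) (x : X' ⟶ X) (t : X' ⟶ T),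
      (x ≫ y) * ((x ≫ v ≫ g) * (t ≫ i) * (x ≫ v ≫ g)⁻¹) = ((x ≫ v ≫ g) * (t ≫ i) * (x ≫ v ≫ g)⁻¹) * (x ≫ y)

variable {i : T ⟶ G} {c : C ⟶ G}

lemma CentPt.comp {V V' : Over S} {g : V ⟶ G} (h : CentPt i c g) (w : V' ⟶ V) : CentPt i c (w ≫ g) := by
  intro X v y
  have := h X (v ≫ w) y
  simpa only [Category.assoc] using this

/-- For sections. -/
theorem isCentralizerOf_conj_iff [GrpObj C] [IsMonHom c] [Mono c] (g : 𝟙_ (Over S) ⟶ G) :
    Red.IsCentralizerOf (i ≫ conj g) c ↔ CentPt i c g := by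
  have key : ∀ {X : Over S} (v : X ⟶ 𝟙_ (Over S)) {X' : Over S} (x : X' ⟶ X) (t : X' ⟶ T),
      (x ≫ v ≫ g) * (t ≫ i) * (x ≫ v ≫ g)⁻¹ = t ≫ i ≫ conj g := by
    intro X v X' x t
    rw [← Category.assoc t, comp_conj, ← Category.assoc x, toUnit_unique (x ≫ v) (toUnit X')]
  constructor
  · rintro ⟨-, -, h⟩ X v y
    rw [h]
    simp only [key]
  · intro h
    refine ⟨inferInstance, inferInstance, fun X y => ?_⟩
    rw [h X (toUnit X) y]
    simp only [key]

section bc

variable (f : S' ⟶ S)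

/-- The object of `Over S'` underlying an object over `f`. -/
noncomputable def lo {V : Over S'} {X : Over S} (v : X ⟶ (Over.map f).obj V) : Over S' := Over.mk (v.left ≫ V.hom)

/-- the comparison isomorphism. -/
noncomputable def loIso {V : Over S'} {X : Over S} (v : X ⟶ (Over.map f).obj V) : (Over.map f).obj (lo f v) ≅ X :=
  Over.isoMk (Iso.refl _) (by
    have := Over.w v
    simp only [lo, Over.map_obj_hom, Over.mk_hom, Iso.refl_hom, Category.id_comp, Category.assoc] at this ⊢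
    exact this.symm)

/-- the morphism underlying `v`. -/
noncomputable def loMap {V : Over S'} {X : Over S} (v : X ⟶ (Over.map f).obj V) : lo f v ⟶ V := Over.homMk v.left rfl

lemma loIso_comp {V : Over S'} {X : Over S} (v : X ⟶ (Over.map f).obj V) :
    (loIso f v).hom ≫ v = (Over.map f).map (loMap f v) := by
  ext1
  exact Category.id_comp _

/-- `CentPt` over `S` tested on `Over S'`. -/
lemma centPt_map_iff {V : Over S'} (γ : (Over.map f).obj V ⟶ G) : CentPt i c γ ↔
    ∀ (X : Over S') (v : X ⟶ V) (y : (Over.map f).obj X ⟶ G), (∃ z : (Over.map f).obj X ⟶ C, z ≫ c = y) ↔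
      ∀ (X' : Over S') (x : X' ⟶ X) (t : (Over.map f).obj X' ⟶ T),
        ((Over.map f).map x ≫ y) * (((Over.map f).map (x ≫ v) ≫ γ) * (t ≫ i) * ((Over.map f).map (x ≫ v) ≫ γ)⁻¹) =
        (((Over.map f).map (x ≫ v) ≫ γ) * (t ≫ i) * ((Over.map f).map (x ≫ v) ≫ γ)⁻¹) *
          ((Over.map f).map x ≫ y) := by
  constructor
  · intro h X v y
    rw [h _ ((Over.map f).map v) y]
    constructor
    · intro hh X' x t
      have := hh ((Over.map f).obj X') ((Over.map f).map x) t
      rw [Functor.map_comp, Category.assoc]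
      exact this
    · intro hh X' x t
      have := hh (lo f x) (loMap f x) ((loIso f x).hom ≫ t)
      rw [Functor.map_comp, ← loIso_comp] at this
      simp only [Category.assoc, ← GrpObj.comp_inv, ← MonObj.comp_mul] at this
      rw [cancel_epi] at this
      simp only [GrpObj.comp_inv] at this
      exact this
  · intro h X v y
    have h1 := h (lo f v) (loMap f v) ((loIso f v).hom ≫ y)
    have h2 : (∃ z : X ⟶ C, z ≫ c = y) ↔ ∃ z : (Over.map f).obj (lo f v) ⟶ C, z ≫ c = (loIso f v).hom ≫ y := by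
      constructor
      · rintro ⟨z, rfl⟩
        exact ⟨(loIso f v).hom ≫ z, by rw [Category.assoc]⟩
      · rintro ⟨z, hz⟩
        exact ⟨(loIso f v).inv ≫ z, by rw [Category.assoc, hz, Iso.inv_hom_id_assoc]⟩
    rw [h2, h1]
    constructor
    · intro hh X' x t
      let x₁ : X' ⟶ (Over.map f).obj (lo f v) := x ≫ (loIso f v).inv
      have := hh (lo f x₁) (loMap f x₁) ((loIso f x₁).hom ≫ t)
      rw [Functor.map_comp, ← loIso_comp, ← loIso_comp] at this
      simp only [x₁, Category.assoc, Iso.inv_hom_id_assoc, ← GrpObj.comp_inv, ← MonObj.comp_mul] at this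
      rw [cancel_epi] at this
      simp only [GrpObj.comp_inv] at this
      exact this
    · intro hh X' x t
      have := hh ((Over.map f).obj X') ((Over.map f).map x ≫ (loIso f v).hom) t
      rw [Functor.map_comp, ← loIso_comp]
      simp only [Category.assoc] at this ⊢
      exact this

variable [GrpObj T] [GrpObj C]

/-- `CentPt` and base change. -/
theorem centPt_bc_iff {V : Over S'} (g : V ⟶ Red.bc f G) :
    CentPt ((Over.pullback f).map i) ((Over.pullback f).map c) g ↔ CentPt i c ((bcEquiv f V G).symm g) := by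
  rw [centPt_map_iff]
  refine forall_congr' fun X => forall_congr' fun v => ?_
  have hc : ∀ y : X ⟶ Red.bc f G, (∃ z : X ⟶ Red.bc f C, z ≫ (Over.pullback f).map c = y) ↔
      ∃ z : (Over.map f).obj X ⟶ C, z ≫ c = (bcEquiv f X G).symm y := by
    intro y
    constructor
    · rintro ⟨z, rfl⟩
      refine ⟨(bcEquiv f X C).symm z, ?_⟩
      apply (bcEquiv f X G).injective
      rw [← bcEquiv_comp, MulEquiv.apply_symm_apply, MulEquiv.apply_symm_apply]
    · rintro ⟨z, hz⟩
      refine ⟨bcEquiv f X C z, ?_⟩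
      rw [bcEquiv_comp, hz, MulEquiv.apply_symm_apply]
  have hx : ∀ (y : X ⟶ Red.bc f G) (X' : Over S') (x : X' ⟶ X) (t : X' ⟶ Red.bc f T),
      ((x ≫ y) * ((x ≫ v ≫ g) * (t ≫ (Over.pullback f).map i) * (x ≫ v ≫ g)⁻¹) =
        ((x ≫ v ≫ g) * (t ≫ (Over.pullback f).map i) * (x ≫ v ≫ g)⁻¹) * (x ≫ y)) ↔
      ((Over.map f).map x ≫ (bcEquiv f X G).symm y) *
        (((Over.map f).map (x ≫ v) ≫ (bcEquiv f V G).symm g) * ((bcEquiv f X' T).symm t ≫ i) *
          ((Over.map f).map (x ≫ v) ≫ (bcEquiv f V G).symm g)⁻¹) =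
        (((Over.map f).map (x ≫ v) ≫ (bcEquiv f V G).symm g) * ((bcEquiv f X' T).symm t ≫ i) *
          ((Over.map f).map (x ≫ v) ≫ (bcEquiv f V G).symm g)⁻¹) * ((Over.map f).map x ≫ (bcEquiv f X G).symm y) := by
    intro y X' x t
    rw [← (bcEquiv f X' G).injective.eq_iff]
    simp only [map_mul, map_inv]
    have e1 : bcEquiv f X' G ((Over.map f).map x ≫ (bcEquiv f X G).symm y) = x ≫ y := by
      rw [← bcEquiv_naturality, MulEquiv.apply_symm_apply]
    have e2 : bcEquiv f X' G ((Over.map f).map (x ≫ v) ≫ (bcEquiv f V G).symm g) = x ≫ v ≫ g := by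
      rw [← bcEquiv_naturality, MulEquiv.apply_symm_apply, Category.assoc]
    have e3 : bcEquiv f X' G ((bcEquiv f X' T).symm t ≫ i) = t ≫ (Over.pullback f).map i := by
      rw [← bcEquiv_comp, MulEquiv.apply_symm_apply]
    rw [e1, e2, e3]
  constructor
  · intro h y
    have h1 := h (bcEquiv f X G y)
    rw [hc, MulEquiv.symm_apply_apply] at h1
    rw [h1]
    refine forall_congr' fun X' => forall_congr' fun x => ?_
    constructor
    · intro hh t
      have h2 := (hx _ _ _ _).1 (hh (bcEquiv f X' T t))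
      rwa [MulEquiv.symm_apply_apply, MulEquiv.symm_apply_apply] at h2
    · intro hh t
      refine (hx _ _ _ _).2 ?_
      rw [MulEquiv.symm_apply_apply]
      exact hh _
  · intro h y
    rw [hc, h]
    refine forall_congr' fun X' => forall_congr' fun x => ?_
    constructor
    · intro hh t
      exact (hx _ _ _ _).2 (hh _)
    · intro hh t
      have h2 := (hx _ _ _ _).1 (hh (bcEquiv f X' T t))
      rwa [MulEquiv.symm_apply_apply] at h2

/-- `S'` over `S`. -/
noncomputable def unitIso : (Over.map f).obj (𝟙_ (Over S')) ≅ Over.mk f :=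
  Over.isoMk (Iso.refl _) (by exact (Category.id_comp _).trans (Category.id_comp _).symm)

/-- The section of the base change attached to a point over `f`. -/
noncomputable def secOf {f : S' ⟶ S} (γ : Over.mk f ⟶ G) : 𝟙_ (Over S') ⟶ Red.bc f G :=
  bcEquiv f (𝟙_ _) G ((unitIso f).hom ≫ γ)

omit [GrpObj T] [GrpObj C] in
lemma bcEquiv_symm_secOf {f : S' ⟶ S} (γ : Over.mk f ⟶ G) (X : Over S') :
    (bcEquiv f X G).symm (toUnit X ≫ secOf γ) =
      (Over.homMk X.hom (by rfl) : (Over.map f).obj X ⟶ Over.mk f) ≫ γ := by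
  apply (bcEquiv f X G).injective
  rw [MulEquiv.apply_symm_apply, secOf, bcEquiv_naturality, ← Category.assoc]
  congr 2

/-- **Centralizers of conjugates over `S'` in terms of points over `S`.** -/
theorem isCentralizerOf_iff_centPt {f : S' ⟶ S} (γ : Over.mk f ⟶ G) [IsMonHom c] [Mono c] :
    Red.IsCentralizerOf ((Over.pullback f).map i ≫ conj (secOf γ)) ((Over.pullback f).map c) ↔ CentPt i c γ := by
  rw [isCentralizerOf_conj_iff, centPt_bc_iff]
  rw [secOf, MulEquiv.symm_apply_apply]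
  constructor
  · intro h
    have h2 := h.comp (unitIso f).inv
    rwa [Iso.inv_hom_id_assoc] at h2
  · intro h
    exact h.comp _

end bc

section local_

/-- A morphism into `W` is locally a morphism into one of the `U k`. -/
def JCover {J : Type*} {W : Over S} (U : J → Over S) (u : ∀ k, U k ⟶ W) : Prop :=
  ∀ (X : Over S) (v : X ⟶ W) (x : X.left), ∃ (O : X.left.Opens) (k : J), x ∈ O ∧
    ∃ w : Over.mk (O.ι ≫ X.hom) ⟶ U k, w ≫ u k = (Over.homMk O.ι rfl : Over.mk (O.ι ≫ X.hom) ⟶ X) ≫ v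

/-- `CentPt` is Zariski-local. -/
theorem centPt_of_cover [GrpObj C] [Mono c] {J : Type*} {W : Over S} (U : J → Over S)
    (u : ∀ k, U k ⟶ W) (hu : JCover U u) (g : W ⟶ G) (h : ∀ k, CentPt i c (u k ≫ g)) : CentPt i c g := by
  intro X v y
  choose O k hO w hw using hu X v
  have key : ∀ x : X.left, ∀ (hh : ∀ (X' : Over S) (x' : X' ⟶ X) (t : X' ⟶ T),
      (x' ≫ y) * ((x' ≫ v ≫ g) * (t ≫ i) * (x' ≫ v ≫ g)⁻¹) =
        ((x' ≫ v ≫ g) * (t ≫ i) * (x' ≫ v ≫ g)⁻¹) * (x' ≫ y)),
      ∃ z : Over.mk ((O x).ι ≫ X.hom) ⟶ C,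
        z ≫ c = (Over.homMk (O x).ι rfl : Over.mk ((O x).ι ≫ X.hom) ⟶ X) ≫ y := by
    intro x hh
    refine (h (k x) _ (w x) _).2 fun X' x' t => ?_
    have h1 := hh X' (x' ≫ Over.homMk (O x).ι rfl) t
    have h2 : x' ≫ w x ≫ u (k x) ≫ g = (x' ≫ Over.homMk (O x).ι rfl) ≫ v ≫ g := by
      rw [← Category.assoc (w x), hw, Category.assoc, Category.assoc]
    rw [h2]
    rw [← Category.assoc x']
    exact h1
  constructor
  · rintro ⟨z, rfl⟩ X' x t
    apply Over.OverMorphism.ext
    refine Scheme.hom_ext_of_forall _ _ fun p => ?_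
    let q := x.left p
    obtain ⟨a, b⟩ : ∃ a : X'.left.Opens, a = x.left ⁻¹ᵁ (O q) := ⟨_, rfl⟩
    refine ⟨x.left ⁻¹ᵁ (O q), hO q, ?_⟩
    let X'' : Over S := Over.mk ((x.left ⁻¹ᵁ (O q)).ι ≫ X'.hom)
    let e : X'' ⟶ X' := Over.homMk (x.left ⁻¹ᵁ (O q)).ι rfl
    let x'' : X'' ⟶ Over.mk ((O q).ι ≫ X.hom) := Over.homMk (x.left ∣_ (O q)) (by
      change (x.left ∣_ (O q)) ≫ (O q).ι ≫ X.hom = (x.left ⁻¹ᵁ (O q)).ι ≫ X'.hom
      rw [← Category.assoc, morphismRestrict_ι, Category.assoc, Over.w])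
    have he : x'' ≫ (Over.homMk (O q).ι rfl : Over.mk ((O q).ι ≫ X.hom) ⟶ X) = e ≫ x := by
      ext1
      exact morphismRestrict_ι _ _
    have h1 := (h (k q) _ (w q) ((Over.homMk (O q).ι rfl : Over.mk ((O q).ι ≫ X.hom) ⟶ X) ≫ z ≫ c)).1
      ⟨(Over.homMk (O q).ι rfl : Over.mk ((O q).ι ≫ X.hom) ⟶ X) ≫ z, by rw [Category.assoc]⟩ X'' x'' (e ≫ t)
    have h2 : x'' ≫ w q ≫ u (k q) ≫ g = e ≫ x ≫ v ≫ g := by
      rw [← Category.assoc (w q), hw, Category.assoc, ← Category.assoc x'', he, Category.assoc]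
    have h3 : x'' ≫ (Over.homMk (O q).ι rfl : Over.mk ((O q).ι ≫ X.hom) ⟶ X) ≫ z ≫ c = e ≫ x ≫ z ≫ c := by
      rw [← Category.assoc, he, Category.assoc]
    rw [h2, h3] at h1
    simp only [Category.assoc, ← GrpObj.comp_inv, ← MonObj.comp_mul] at h1
    simp only [← GrpObj.comp_inv]
    exact congrArg CommaMorphism.left h1
  · intro hh
    choose z hz using fun x => key x hh
    have hcl : Mono c.left := inferInstanceAs (Mono ((Over.forget S).map c))
    let 𝒰 : X.left.OpenCover := {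
      I₀ := X.left, X k := (O k), f k := (O k).ι,
      mem₀ := by
        rw [Scheme.presieve₀_mem_precoverage_iff]
        refine ⟨fun x ↦ ⟨x, by simpa using hO x⟩, inferInstance⟩ }
    have hz' : ∀ x, (z x).left ≫ c.left = (O x).ι ≫ y.left := fun x => congrArg CommaMorphism.left (hz x)
    let ζ : X.left ⟶ C.left := 𝒰.glueMorphisms (fun x => (z x).left) (fun a b => by
      rw [← cancel_mono c.left, Category.assoc, Category.assoc]
      erw [hz' a, hz' b]
      exact pullback.condition_assoc _)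
    have hζ : ζ ≫ c.left = y.left := by
      refine 𝒰.hom_ext _ _ fun x => ?_
      rw [← Category.assoc, Scheme.Cover.ι_glueMorphisms]
      exact hz' x
    refine ⟨Over.homMk ζ ?_, Over.OverMorphism.ext hζ⟩
    rw [← Over.w c, ← Category.assoc, hζ, Over.w]

theorem jCover_of_open {J : Type*} {W : Over S} (U : J → Over S) (u : ∀ k, U k ⟶ W)
    [∀ k, IsOpenImmersion (u k).left] (hu : ∀ w : W.left, ∃ k, w ∈ Set.range (u k).left) : JCover U u := by
  intro X v x
  obtain ⟨k, p, hk⟩ := hu (v.left x)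
  refine ⟨v.left ⁻¹ᵁ (u k).left.opensRange, k, ⟨p, hk⟩, ?_⟩
  have hr : Set.range ((v.left ⁻¹ᵁ (u k).left.opensRange).ι ≫ v.left) ⊆ Set.range (u k).left := by
    rintro _ ⟨a, rfl⟩
    exact a.2
  refine ⟨Over.homMk (IsOpenImmersion.lift (u k).left _ hr) ?_, ?_⟩
  · rw [← Over.w (u k), IsOpenImmersion.lift_fac_assoc, Category.assoc, Over.w]
    rfl
  · ext1
    exact IsOpenImmersion.lift_fac _ _ _

end local_

end Groth.Agent.Sga3.H803.CentPt
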