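import Groth.Agent.Sga3.H803.EtTors
import Groth.Agent.Sga3.H797.HomFin
import Groth.Agent.Sga3.H798.MaxTorCent
import Groth.Agent.Sga3.H784.NAMain
import Groth.Agent.FlatA.EtaleSections

/-!
# Étale-locally the torsion of a maximal torus is conjugate into a Cartan subgroup
-/

set_option autoImplicit false
universe u
open CategoryTheory MonoidalCategory CartesianMonoidalCategory MonObj GrpObj AlgebraicGeometry Limits

namespace Groth.Agent.Sga3.H803.OrbitCart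

open Groth.Agent.Sga3B Groth.Agent.Sga3B.DSPts Groth.Agent.Sga3B.InfConjFam Groth.Agent.Sga3B.CentRep
  Groth.Agent.Sga3.H797 Groth.Agent.Sga3.H798 EtTors

variable {S : Scheme.{u}} {T G C : Over S} [GrpObj T] [GrpObj G] [GrpObj C] {Γ : Type} [Group Γ]

/-- On geometric fibres. -/
theorem exists_conj_fibre [LocallyOfFiniteType G.hom] {i : T ⟶ G}
    (hi : Red.IsMaximalTorus i) {c : C ⟶ G} (hc : SGA3x.IsCartan c) (ψ : Γ →* (𝟙_ (Over S) ⟶ T)) (s : S) :
    ∃ (g : (Over.map (Red.geomPt s)).obj (𝟙_ _) ⟶ G) (χ : Γ →* ((Over.map (Red.geomPt s)).obj (𝟙_ _) ⟶ C)),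
      ∀ a, χ a ≫ c = g * (toUnit _ ≫ ψ a ≫ i) * g⁻¹ := by
  have h1 := hi.1
  have h3 := hc.1
  have h4 := hc.2.1
  obtain ⟨-, -, T₀, _, i₀, hi₀, hc₀⟩ := hc.2.2.2 s
  have hiK := MaxTorCent.isMaximalTorus_geomFibre hi s
  have hlft : LocallyOfFiniteType (Red.geomFibre s G).hom :=
    inferInstanceAs (LocallyOfFiniteType (pullback.snd G.hom (Red.geomPt s)))
  have h5 := hi₀.1
  obtain ⟨g₀, φ, hφ⟩ := H784.NAMain.exists_conjBy _ i₀ hiK hi₀
  obtain ⟨a, ha⟩ := (hc₀.2.2 T₀ i₀).2 fun X x t => by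
    rw [← MonObj.mul_comp, ← MonObj.mul_comp, MaxTorNear900.mul_comm_of_isTorus hi₀.2.2.1]
  have hcK : Mono ((Over.pullback (Red.geomPt s)).map c) := hc₀.2.1
  have hcK' : IsMonHom ((Over.pullback (Red.geomPt s)).map c) := hc₀.1
  have key : ∀ γ, (bcSec (Red.geomPt s) ψ γ ≫ φ.hom ≫ a) ≫ (Over.pullback (Red.geomPt s)).map c =
      g₀ * (bcSec (Red.geomPt s) ψ γ ≫ (Over.pullback (Red.geomPt s)).map i) * g₀⁻¹ := by
    intro γ
    rw [Category.assoc, Category.assoc, ha, ← hφ, MonObj.comp_mul, MonObj.comp_mul, GrpObj.comp_inv,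
      ← Category.assoc _ _ g₀, toUnit_unique (bcSec (Red.geomPt s) ψ γ ≫ toUnit _) (𝟙 _), Category.id_comp]
  let χ : Γ →* (𝟙_ _ ⟶ Red.geomFibre s C) := MonoidHom.mk' (fun γ => bcSec (Red.geomPt s) ψ γ ≫ φ.hom ≫ a)
    (fun x y => by
      rw [← cancel_mono ((Over.pullback (Red.geomPt s)).map c), MonObj.mul_comp, key, key, key, map_mul,
        MonObj.mul_comp]
      group)
  refine ⟨(bcEquiv (Red.geomPt s) _ G).symm g₀, ((bcEquiv (Red.geomPt s) _ C).symm.toMonoidHom).comp χ, fun γ => ?_⟩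
  apply (bcEquiv (Red.geomPt s) _ G).injective
  rw [map_mul, map_mul, map_inv, MulEquiv.apply_symm_apply, ← bcSec_comp, ← key, ← bcEquiv_comp]
  congr 1
  exact (bcEquiv (Red.geomPt s) _ C).apply_symm_apply _

/-- **Étale-locally the torsion is conjugate into a Cartan subgroup.** -/
theorem exists_etale_conj [Finite Γ] [Smooth G.hom] [IsSeparated G.hom] {i : T ⟶ G}
    (hi : Red.IsMaximalTorus i) {c : C ⟶ G} (hc : SGA3x.IsCartan c) (hn : HomFin.Inv (Nat.card Γ) S)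
    (ψ : Γ →* (𝟙_ (Over S) ⟶ T)) (s : S) :
    ∃ (S' : Scheme.{u}) (w : S' ⟶ S) (g : Over.mk w ⟶ G) (χ : Γ →* (Over.mk w ⟶ C)),
      Etale w ∧ s ∈ Set.range w ∧ ∀ a, χ a ≫ c = g * (toUnit _ ≫ ψ a ≫ i) * g⁻¹ := by
  have h1 := hi.1
  have h3 := hc.1
  have h4 := hc.2.1
  have h5 := hc.2.2.1
  have hsepC : IsSeparated C.hom := by
    have : Mono c.left := inferInstanceAs (Mono ((Over.forget S).map c))
    have h : IsSeparated (c.left ≫ G.hom) := inferInstance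
    rwa [Over.w c] at h
  obtain ⟨H, υ, hH, -, hHfp, -⟩ := HomFin.exists_rep G Γ
  obtain ⟨H', υ', hH', -, hHfp', -⟩ := HomFin.exists_rep C Γ
  have := hHfp inferInstance
  have := hHfp' inferInstance
  have hsm' : Smooth H'.hom := HomFin.smooth_rep hH' hn
  -- the orbit map
  let φ : Γ →* (𝟙_ (Over S) ⟶ G) := mapSec i ψ
  let ψ₁ : Γ →* (G ⊗ 𝟙_ (Over S) ⟶ G) :=
    (MulAut.conj (fst G (𝟙_ (Over S)))).toMonoidHom.comp ((InfChart.pre G (toUnit _)).comp φ)
  have hψ₁ : ∀ γ, ψ₁ γ = fst G (𝟙_ (Over S)) * (toUnit _ ≫ φ γ) * (fst G (𝟙_ (Over S)))⁻¹ := fun γ => rfl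
  obtain ⟨o₁, ho₁, -⟩ := hH.existsUnique _ ψ₁
  let o : G ⊗ 𝟙_ (Over S) ⟶ H ⊗ 𝟙_ (Over S) := lift o₁ (snd _ _)
  have ho : Smooth o.left := HomFin.smooth_orbit hH hn φ o (lift_snd _ _) (fun γ => by
    rw [← Category.assoc, lift_fst, ho₁, hψ₁, toUnit_unique (toUnit _) (snd G (𝟙_ (Over S)))])
  -- the inclusion of the homomorphisms into `C`
  obtain ⟨m₁, hm₁, -⟩ := hH.existsUnique H' ((MonoidHom.mk' (fun γ => υ' γ ≫ c) fun a b => by
    rw [map_mul, MonObj.mul_comp]) : Γ →* (H' ⟶ G))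
  replace hm₁ : ∀ γ, m₁ ≫ υ γ = υ' γ ≫ c := hm₁
  let m : H' ⟶ H ⊗ 𝟙_ (Over S) := lift m₁ (toUnit _)
  have hsq := isPullback_left (IsPullback.of_hasPullback o m)
  have hP1 : Smooth (pullback.snd o m).left := MorphismProperty.of_isPullback hsq ho
  have hP : Smooth (pullback o m).hom := by
    have h6 : Smooth ((pullback.snd o m).left ≫ H'.hom) := inferInstance
    rwa [Over.w] at h6
  have ho2 : ∀ {X : Over S} (x : X ⟶ G ⊗ 𝟙_ (Over S)) (γ : Γ), (x ≫ o) ≫ fst _ _ ≫ υ γ =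
      (x ≫ fst _ _) * (toUnit X ≫ ψ γ ≫ i) * (x ≫ fst _ _)⁻¹ := by
    intro X x γ
    rw [Category.assoc, ← Category.assoc o, lift_fst, ho₁, hψ₁, MonObj.comp_mul, MonObj.comp_mul,
      GrpObj.comp_inv, ← Category.assoc, toUnit_unique (x ≫ toUnit _) (toUnit X)]
    rfl
  -- surjectivity
  have hs : s ∈ Set.range (pullback o m).hom := by
    obtain ⟨g, χ, hχ⟩ := exists_conj_fibre hi hc ψ s
    obtain ⟨h', hh', -⟩ := hH'.existsUnique _ χ
    have h7 : lift g (toUnit _) ≫ o = h' ≫ m := by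
      apply CartesianMonoidalCategory.hom_ext
      · refine (hH.existsUnique _ ((InfChart.pre G (lift g (toUnit _) ≫ o ≫ fst _ _)).comp υ)).unique
          (fun γ => ?_) (fun γ => ?_)
        · rw [Category.assoc]
          rfl
        · have h8 := ho2 (lift g (toUnit _)) γ
          rw [lift_fst, ← hχ] at h8
          have h9 : (h' ≫ m) ≫ fst _ _ ≫ υ γ = χ γ ≫ c := by
            rw [Category.assoc, ← Category.assoc m, lift_fst, hm₁, ← Category.assoc, hh']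
          rw [Category.assoc (h' ≫ m), h9, ← h8]
          simp only [InfChart.pre, MonoidHom.comp_apply, MonoidHom.coe_mk, OneHom.coe_mk, Category.assoc]
      · exact toUnit_unique _ _
    let p : (Over.map (Red.geomPt s)).obj (𝟙_ _) ⟶ pullback o m := pullback.lift _ _ h7
    refine ⟨p.left (IsLocalRing.closedPoint _), ?_⟩
    rw [← Scheme.Hom.comp_apply, Over.w]
    change (𝟙 _ ≫ Red.geomPt s) _ = s
    rw [Category.id_comp, Scheme.Hom.comp_apply]
    exact Scheme.fromSpecResidueField_apply _ _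
  obtain ⟨S', w, s', hw, hs', q, hq⟩ := FlatA.EtaleSections.exists_section (pullback o m).hom s hs
  let q' : Over.mk w ⟶ pullback o m := Over.homMk q hq
  refine ⟨S', w, (q' ≫ pullback.fst o m) ≫ fst _ _,
    (InfChart.pre C (q' ≫ pullback.snd o m)).comp υ', hw, ⟨s', hs'⟩, fun γ => ?_⟩
  rw [← ho2, Category.assoc q', pullback.condition]
  change ((q' ≫ pullback.snd o m) ≫ υ' γ) ≫ c = _
  rw [Category.assoc, ← hm₁, ← Category.assoc q', Category.assoc (q' ≫ pullback.snd o m) m, ← Category.assoc m, lift_fst]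

end Groth.Agent.Sga3.H803.OrbitCart
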