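import Groth.Agent.Sga3.H803.CentCore
import Groth.Agent.Sga3.H803.CentPt
import Groth.Agent.Sga3.H803.OrbitCart
import Groth.Agent.Sga3B.TorusEtLoc920

/-!
# Cartan subgroups are étale-locally centralizers of maximal tori

`G` smooth and separated over `S`, `i : T ⟶ G` a maximal torus, `c : C ⟶ G` a Cartan subgroup.

* `exists_conj` : there are `π : V ⟶ S` étale surjective and `g : V ⟶ G` such that `C_V` is the centralizer of the
  maximal torus `g T_V g⁻¹` of `G_V`.
* `exists_etale` : the same, with the torus as an object.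
-/

set_option autoImplicit false
universe u
open CategoryTheory MonoidalCategory CartesianMonoidalCategory MonObj GrpObj AlgebraicGeometry Limits

namespace Groth.Agent.Sga3.H803.CartanLoc

open Groth.Agent.Sga3B Groth.Agent.Sga3B.DSPts Groth.Agent.Sga3B.InfConjFam Groth.Agent.Sga3B.CentRep
  Groth.Agent.Sga3B.RedIso Groth.Agent.Sga3B.ResAlg Groth.Agent.Sga3.H797 Groth.Agent.Sga3.H798 EtTors CentPt

variable {S : Scheme.{u}} {T G C : Over S} [GrpObj T] [GrpObj G] [GrpObj C]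

/-- Étale-locally around `s`, `c` is the centralizer of a conjugate of `i`. -/
def Loc (i : T ⟶ G) (c : C ⟶ G) (s : S) : Prop :=
  ∃ (S' : Scheme.{u}) (w : S' ⟶ S) (g : Over.mk w ⟶ G), Etale w ∧ s ∈ Set.range w ∧ CentPt i c g

theorem loc_of_bc {S₁ : Scheme.{u}} (f : S₁ ⟶ S) [Etale f] {i : T ⟶ G} {c : C ⟶ G} (s₁ : S₁)
    (h : Loc ((Over.pullback f).map i) ((Over.pullback f).map c) s₁) : Loc i c (f s₁) := by
  obtain ⟨S', w, g, hw, ⟨s', rfl⟩, hg⟩ := h
  exact ⟨S', w ≫ f, (bcEquiv f _ G).symm g, inferInstance, ⟨s', Scheme.Hom.comp_apply _ _ _⟩,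
    (centPt_bc_iff f g).1 hg⟩

/-- The case of constant torsion. -/
theorem loc_of_gen {Γ : Type} [Group Γ] [Finite Γ] [Smooth G.hom] [IsSeparated G.hom] {i : T ⟶ G}
    (hi : Red.IsMaximalTorus i) {M : Type} [AddCommGroup M] (hsp : Red.IsSplitTorusWith M T) {n : ℕ}
    (hrig : Rigid.IsRigid i n) {c : C ⟶ G} (hc : SGA3x.IsCartan c)
    (hn : HomFin.Inv (Nat.card Γ) S) {ψ : Γ →* (𝟙_ (Over S) ⟶ T)} (hψ : Gen ψ n) (s : S) : Loc i c s := by
  have h1 := hi.1
  have h3 := hc.1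
  have h4 := hc.2.1
  obtain ⟨S', w, g, χ, hw, hs, hχ⟩ := OrbitCart.exists_etale_conj hi hc hn ψ s
  refine ⟨S', w, g, hw, hs, ?_⟩
  rw [← isCentralizerOf_iff_centPt]
  have hsmw : Smooth (Red.bc w G).hom := inferInstanceAs (Smooth (pullback.snd G.hom w))
  have hsepw : IsSeparated (Red.bc w G).hom := inferInstanceAs (IsSeparated (pullback.snd G.hom w))
  have hm : IsMonHom (conjIso (secOf g)).hom := isMonHom_conj _
  have hm0 : IsMonHom (Iso.refl (Red.bc w T)).hom := inferInstanceAs (IsMonHom (𝟙 (Red.bc w T)))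
  have hrig' : Rigid.IsRigid ((Over.pullback w).map i ≫ conj (secOf g)) n :=
    Rigid.isRigid_of_iso (Iso.refl (Red.bc w T)) (conjIso (secOf g)) (Category.id_comp _) (Rigid.isRigid_bc w hrig)
  refine CentCore.isCentralizerOf (isMaximalTorus_conj _ _ (AlgBc.isMaximalTorus_bc w hi))
    (TorusAlgClosed.isSplitTorusWith_bc w hsp) hrig' (CartBc.isCartan_bc w hc) (hn.of_hom w) (gen_bcSec w hψ)
    ((bcEquiv w (𝟙_ _) C).toMonoidHom.comp ((InfChart.pre C (unitIso w).hom).comp χ)) fun γ => ?_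
  have e1 : bcEquiv w (𝟙_ _) C ((unitIso w).hom ≫ χ γ) ≫ (Over.pullback w).map c =
      bcEquiv w (𝟙_ _) G ((unitIso w).hom ≫ χ γ ≫ c) := by
    rw [bcEquiv_comp, Category.assoc]
  have e2 : bcSec w ψ γ ≫ (Over.pullback w).map i ≫ conj (secOf g) =
      secOf g * bcEquiv w (𝟙_ _) G (toUnit _ ≫ ψ γ ≫ i) * (secOf g)⁻¹ := by
    rw [← Category.assoc, comp_conj, toUnit_unique (toUnit _) (𝟙 _), Category.id_comp, bcSec_comp]
  refine e1.trans (Eq.trans ?_ e2.symm)
  rw [hχ, MonObj.comp_mul, MonObj.comp_mul, GrpObj.comp_inv, map_mul, map_mul, map_inv, ← Category.assoc,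
    toUnit_unique ((unitIso w).hom ≫ toUnit _) (toUnit _)]
  rfl

/-- The case of a split torus with rigid torsion. -/
theorem loc_of_rigid {B : Type u} [CommRing B] {T G C : Over (Spec (CommRingCat.of B))} [GrpObj T] [GrpObj G]
    [GrpObj C] [Smooth G.hom] [IsSeparated G.hom] {i : T ⟶ G}
    (hi : Red.IsMaximalTorus i) {r : ℕ} (hsp : Red.IsSplitTorusWith (Fin r → ℤ) T) {n : ℕ} (hn0 : 0 < n)
    (hrig : Rigid.IsRigid i n) {c : C ⟶ G} (hc : SGA3x.IsCartan c) (hn : IsUnit (n : B))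
    (s : Spec (CommRingCat.of B)) : Loc i c s := by
  have : NeZero n := ⟨hn0.ne'⟩
  have h1 := hi.1
  have h3 := hc.1
  obtain ⟨B', _, v, ψ, hv, hvs, hψ⟩ := exists_etale_torsion r n hn0 B hn
  obtain ⟨s', rfl⟩ := hvs.1 s
  obtain ⟨e⟩ := TorusAlgClosed.isSplitTorusWith_bc v hsp
  have hsmw : Smooth (Red.bc v G).hom := inferInstanceAs (Smooth (pullback.snd G.hom v))
  have hsepw : IsSeparated (Red.bc v G).hom := inferInstanceAs (IsSeparated (pullback.snd G.hom v))
  have hB' : IsUnit (n : B') := by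
    obtain ⟨φ, hφ⟩ := Spec.map_surjective v
    have := hn.map φ.hom
    rwa [map_natCast] at this
  have hinv : HomFin.Inv (Nat.card (Multiplicative (Fin r → ZMod n))) (Spec (CommRingCat.of B')) := by
    have h2 : Nat.card (Multiplicative (Fin r → ZMod n)) = n ^ r := by
      rw [Nat.card_congr Multiplicative.toAdd, Nat.card_fun, Nat.card_eq_fintype_card, Nat.card_eq_fintype_card,
        ZMod.card, Fintype.card_fin]
    have h5 := (hB'.map (Scheme.ΓSpecIso (CommRingCat.of B')).inv.hom).pow r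
    rw [h2]
    change IsUnit (((n ^ r : ℕ)) : Γ(Spec (CommRingCat.of B'), ⊤))
    rw [Nat.cast_pow]
    rwa [map_natCast] at h5
  have hm : IsMonHom (und e.symm).hom := inferInstance
  exact loc_of_bc v s' (loc_of_gen (AlgBc.isMaximalTorus_bc v hi) ⟨e⟩ (Rigid.isRigid_bc v hrig)
    (CartBc.isCartan_bc v hc) hinv (gen_mapSec (und e.symm) hψ) s')

/-- The case of a split torus. -/
theorem loc_of_split {B : Type u} [CommRing B] {T G C : Over (Spec (CommRingCat.of B))} [GrpObj T] [GrpObj G]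
    [GrpObj C] [Smooth G.hom] [IsSeparated G.hom] {i : T ⟶ G}
    (hi : Red.IsMaximalTorus i) {r : ℕ} (hsp : Red.IsSplitTorusWith (Fin r → ℤ) T)
    {c : C ⟶ G} (hc : SGA3x.IsCartan c) {l : ℕ} (hl2 : 2 ≤ l) (hl : IsUnit (l : B))
    (s : Spec (CommRingCat.of B)) : Loc i c s := by
  have h1 := hi.1
  obtain ⟨e⟩ := hsp
  have hm : IsMonHom (und e).hom := inferInstance
  have hm' : IsMonHom (und e.symm).hom := inferInstance
  obtain ⟨m₀, hm₀⟩ := Rigid.exists_pow ((und e.symm).hom ≫ i) hl2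
  have hm0 : IsMonHom (Iso.refl G).hom := inferInstanceAs (IsMonHom (𝟙 G))
  have hrig : Rigid.IsRigid i (l ^ m₀) := by
    refine Rigid.isRigid_of_iso (und e) (Iso.refl G) ?_ (hm₀ m₀ le_rfl)
    rw [Iso.refl_hom, Category.comp_id]
    exact (und e).hom_inv_id_assoc i
  refine loc_of_rigid hi ⟨e⟩ (pow_pos (by omega) m₀) hrig hc ?_ s
  rw [Nat.cast_pow]
  exact hl.pow m₀

/-- **Local form.** -/
theorem loc [Smooth G.hom] [IsSeparated G.hom] {i : T ⟶ G} (hi : Red.IsMaximalTorus i) {c : C ⟶ G}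
    (hc : SGA3x.IsCartan c) (s : S) : Loc i c s := by
  have h1 := hi.1
  have h3 := hc.1
  obtain ⟨B, _, v, r, hv, ⟨y, rfl⟩, hsp⟩ := TorusEtLoc920.exists_etale_split T hi.2.2.1 s
  refine loc_of_bc v y ?_
  obtain ⟨l, hl2, hly⟩ : ∃ l : ℕ, 2 ≤ l ∧ (l : B) ∉ y.asIdeal := by
    by_cases h2 : ((2 : ℕ) : B) ∈ y.asIdeal
    · refine ⟨3, by norm_num, fun h => y.2.ne_top ?_⟩
      rw [Ideal.eq_top_iff_one]
      have h5 := y.asIdeal.sub_mem h h2
      have h6 : ((3 : ℕ) : B) - ((2 : ℕ) : B) = 1 := by push_cast; ring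
      rwa [h6] at h5
    · exact ⟨2, le_rfl, h2⟩
  let B₂ := Localization.Away (l : B)
  let v₂ : Spec (CommRingCat.of B₂) ⟶ Spec (CommRingCat.of B) := Spec.map (CommRingCat.ofHom (algebraMap B B₂))
  have hv₂ : IsOpenImmersion v₂ := inferInstanceAs
    (IsOpenImmersion (Spec.map (CommRingCat.ofHom (algebraMap B (Localization.Away (l : B))))))
  obtain ⟨y₂, rfl⟩ : y ∈ Set.range v₂ := by
    have h5 : Set.range (PrimeSpectrum.comap (algebraMap B B₂)) = PrimeSpectrum.basicOpen (l : B) :=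
      PrimeSpectrum.localization_away_comap_range B₂ (l : B)
    have h6 : y ∈ Set.range (PrimeSpectrum.comap (algebraMap B B₂)) := by
      rw [h5]
      exact hly
    exact h6
  refine loc_of_bc v₂ y₂ ?_
  have hsm : Smooth (Red.bc v G).hom := inferInstanceAs (Smooth (pullback.snd G.hom v))
  have hsep : IsSeparated (Red.bc v G).hom := inferInstanceAs (IsSeparated (pullback.snd G.hom v))
  have hsm₂ : Smooth (Red.bc v₂ (Red.bc v G)).hom := inferInstanceAs (Smooth (pullback.snd (Red.bc v G).hom v₂))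
  have hsep₂ : IsSeparated (Red.bc v₂ (Red.bc v G)).hom :=
    inferInstanceAs (IsSeparated (pullback.snd (Red.bc v G).hom v₂))
  refine loc_of_split (AlgBc.isMaximalTorus_bc v₂ (AlgBc.isMaximalTorus_bc v hi))
    (TorusAlgClosed.isSplitTorusWith_bc v₂ hsp) (CartBc.isCartan_bc v₂ (CartBc.isCartan_bc v hc)) hl2 ?_ y₂
  have := IsLocalization.Away.algebraMap_isUnit (S := B₂) (l : B)
  rwa [map_natCast] at this

/-- **A Cartan subgroup is étale-locally the centralizer of a conjugate of a given maximal torus.** -/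
theorem exists_conj [Smooth G.hom] [IsSeparated G.hom] {i : T ⟶ G} (hi : Red.IsMaximalTorus i) {c : C ⟶ G}
    (hc : SGA3x.IsCartan c) : ∃ (V : Scheme.{u}) (π : V ⟶ S) (g : Over.mk π ⟶ G), Etale π ∧ Surjective π ∧
      Red.IsMaximalTorus ((Over.pullback π).map i ≫ conj (secOf g)) ∧
      Red.IsCentralizerOf ((Over.pullback π).map i ≫ conj (secOf g)) ((Over.pullback π).map c) := by
  have h1 := hi.1
  have h3 := hc.1
  have h4 := hc.2.1
  choose V w g hw hs hg using fun s : S => loc hi hc s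
  let π : ∐ V ⟶ S := Sigma.desc w
  have hdesc : ∀ s, Sigma.ι V s ≫ π = w s := fun s => Sigma.ι_desc w s
  have hπ : Etale π := IsZariskiLocalAtSource.sigmaDesc (P := @Etale) fun s => hw s
  have hπs : Surjective π := by
    refine ⟨fun s => ?_⟩
    obtain ⟨y, hy⟩ := hs s
    refine ⟨Sigma.ι V s y, ?_⟩
    rw [← Scheme.Hom.comp_apply, hdesc, hy]
  let γ' : ∐ V ⟶ G.left := Sigma.desc fun s => (g s).left
  have hγ' : ∀ s, Sigma.ι V s ≫ γ' = (g s).left := fun s => Sigma.ι_desc (fun s => (g s).left) s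
  let γ : Over.mk π ⟶ G := Over.homMk γ' (by
    refine Sigma.hom_ext _ _ fun s => ?_
    rw [← Category.assoc, hγ', Over.w]
    exact (hdesc s).symm)
  let u : ∀ s, Over.mk (w s) ⟶ Over.mk π := fun s => Over.homMk (Sigma.ι V s) (hdesc s)
  have hcent : CentPt i c γ := by
    have hu : ∀ s, IsOpenImmersion (u s).left := fun s => inferInstanceAs (IsOpenImmersion (Sigma.ι V s))
    refine centPt_of_cover (fun s => Over.mk (w s)) u (jCover_of_open _ _ fun y => ?_) γ fun s => ?_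
    · obtain ⟨y', hy'⟩ := (sigmaOpenCover V).covers y
      exact ⟨_, y', hy'⟩
    · have e : u s ≫ γ = g s := by
        ext1
        exact hγ' s
      rw [e]
      exact hg s
  exact ⟨∐ V, π, γ, hπ, hπs, isMaximalTorus_conj _ _ (AlgBc.isMaximalTorus_bc π hi),
    (isCentralizerOf_iff_centPt γ).2 hcent⟩

/-- **Cartan subgroups are étale-locally centralizers of maximal tori.** -/
theorem exists_etale [Smooth G.hom] [IsSeparated G.hom] {i : T ⟶ G} (hi : Red.IsMaximalTorus i) {c : C ⟶ G}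
    (hc : SGA3x.IsCartan c) : ∃ (V : Scheme.{u}) (π : V ⟶ S), Etale π ∧ Surjective π ∧
      ∃ (T₁ : Over V) (_ : GrpObj T₁) (i₁ : T₁ ⟶ Red.bc π G),
        Red.IsMaximalTorus i₁ ∧ Red.IsCentralizerOf i₁ ((Over.pullback π).map c) := by
  obtain ⟨V, π, g, hπ, hπs, h1, h2⟩ := exists_conj hi hc
  exact ⟨V, π, hπ, hπs, _, inferInstance, _, h1, h2⟩

end Groth.Agent.Sga3.H803.CartanLoc
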