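import Groth.Agent.Sga3.H803.EtTors
import Groth.Agent.Sga3.H803.CartBc
import Groth.Agent.Sga3.H831.TorsCent
import Groth.Agent.Sga3.H798.MaxTorCent
import Groth.Agent.Sga3.H797.Rigid
import Groth.Agent.Sga3.H799.FibCrit

/-!
# A Cartan subgroup containing enough torsion of a maximal torus is its centralizer

`T` a split maximal torus of `G`, `C` a Cartan subgroup of `G`, the `n`-torsion of `T` constant, contained in `C`, and
rigid. Then `C` is the centralizer of `T`.
-/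

set_option autoImplicit false
universe u
open CategoryTheory MonoidalCategory CartesianMonoidalCategory MonObj GrpObj AlgebraicGeometry Limits

namespace Groth.Agent.Sga3.H803.CentCore

open Groth.Agent.Sga3B Groth.Agent.Sga3B.DSPts Groth.Agent.Sga3B.InfConjFam Groth.Agent.Sga3B.CentRep
  Groth.Agent.Sga3.H797 Groth.Agent.Sga3.H798 EtTors

variable {S : Scheme.{u}}

section general

variable {T G C Z : Over S} [GrpObj T] [GrpObj G] [GrpObj C] [GrpObj Z]

omit [GrpObj T] in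
/-- Two centralizers are isomorphic. -/
lemma exists_iso_centralizer {i : T ⟶ G} {c : C ⟶ G} {z : Z ⟶ G} (hc : Red.IsCentralizerOf i c)
    (hz : Red.IsCentralizerOf i z) : ∃ e : C ≅ Z, e.hom ≫ z = c := by
  have := hc.2.1
  have := hz.2.1
  obtain ⟨a, ha⟩ := (hz.2.2 C c).2 ((hc.2.2 C c).1 ⟨𝟙 _, Category.id_comp _⟩)
  obtain ⟨b, hb⟩ := (hc.2.2 Z z).2 ((hz.2.2 Z z).1 ⟨𝟙 _, Category.id_comp _⟩)
  refine ⟨⟨a, b, ?_, ?_⟩, ha⟩
  · rw [← cancel_mono c, Category.assoc, hb, ha, Category.id_comp]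
  · rw [← cancel_mono z, Category.assoc, ha, hb, Category.id_comp]

omit [GrpObj T] in
lemma isCentralizerOf_precomp {T' : Over S} {i : T ⟶ G} {c : C ⟶ G} (φ : T' ⟶ T) [IsIso φ]
    (h : Red.IsCentralizerOf i c) : Red.IsCentralizerOf (φ ≫ i) c := by
  obtain ⟨h1, h2, h3⟩ := h
  refine ⟨h1, h2, fun X g => (h3 X g).trans ⟨fun hh X' x y => ?_, fun hh X' x y => ?_⟩⟩
  · have := hh X' x (y ≫ φ)
    rwa [Category.assoc] at this
  · have := hh X' x (y ≫ inv φ)
    rwa [Category.assoc, IsIso.inv_hom_id_assoc] at this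

end general

/-- Projections of a pullback of monomorphisms which factor through each other. -/
lemma isIso_of_isPullback {𝒞 : Type*} [Category 𝒞] {D A B X : 𝒞} {p : D ⟶ A} {q : D ⟶ B} {a : A ⟶ X} {b : B ⟶ X}
    (h : IsPullback p q a b) [Mono b] (e : A ⟶ B) (he : e ≫ b = a) : IsIso p := by
  have h1 : Mono p := MorphismProperty.of_isPullback (P := MorphismProperty.monomorphisms 𝒞) h.flip (by
    exact (inferInstance : Mono b))
  have h2 : h.lift (𝟙 A) e (by rw [he, Category.id_comp]) ≫ p = 𝟙 _ := h.lift_fst _ _ _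
  have h3 : IsSplitEpi p := ⟨⟨⟨_, h2⟩⟩⟩
  exact isIso_of_mono_of_isSplitEpi p

variable {T G C : Over S} [GrpObj T] [GrpObj G] [GrpObj C] {Γ : Type} [Group Γ]

/-- On geometric fibres. -/
theorem isCentralizerOf_fibre [IsSeparated G.hom] [LocallyOfFiniteType G.hom] {i : T ⟶ G}
    (hi : Red.IsMaximalTorus i) {M : Type} [AddCommGroup M] (hsp : Red.IsSplitTorusWith M T) {n : ℕ}
    (hrig : Rigid.IsRigid i n) {c : C ⟶ G} (hc : SGA3x.IsCartan c) {ψ : Γ →* (𝟙_ (Over S) ⟶ T)} (hψ : Gen ψ n)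
    (χ : Γ →* (𝟙_ (Over S) ⟶ C)) (hχ : ∀ γ, χ γ ≫ c = ψ γ ≫ i) (s : S) :
    Red.IsCentralizerOf ((Over.pullback (Red.geomPt s)).map i) ((Over.pullback (Red.geomPt s)).map c) := by
  have h1 := hi.1
  have h2 := hi.2.1
  have h3 := hc.1
  have h4 := hc.2.1
  obtain ⟨-, -, T₀, _, i₀, hi₀, hc₀⟩ := hc.2.2.2 s
  have hiK := MaxTorCent.isMaximalTorus_geomFibre hi s
  have h5 := hi₀.1
  have hsep : IsSeparated (Red.geomFibre s G).hom := inferInstanceAs (IsSeparated (pullback.snd G.hom (Red.geomPt s)))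
  have hlft : LocallyOfFiniteType (Red.geomFibre s G).hom :=
    inferInstanceAs (LocallyOfFiniteType (pullback.snd G.hom (Red.geomPt s)))
  have hcomm := Rigid.comm_of_rigid ((Over.pullback (Red.geomPt s)).map i) i₀ hiK.2.2.1
    (TorusAlgClosed.isSplitTorusWith_bc (Red.geomPt s) hsp) hi₀.2.2.1 (Rigid.isRigid_bc (Red.geomPt s) hrig)
    (fun X r t ht => by
      refine (gen_bcSec (Red.geomPt s) hψ).comm (g := r ≫ i₀) (fun γ => ?_) (𝟙 X) t ht |> fun h => by
        simpa only [Category.id_comp] using h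
      have e1 : bcSec (Red.geomPt s) ψ γ ≫ (Over.pullback (Red.geomPt s)).map i =
          bcSec (Red.geomPt s) χ γ ≫ (Over.pullback (Red.geomPt s)).map c := by
        rw [bcSec_comp, bcSec_comp, hχ]
      rw [e1]
      have e2 := (hc₀.2.2 X (toUnit X ≫ bcSec (Red.geomPt s) χ γ ≫ (Over.pullback (Red.geomPt s)).map c)).1
        ⟨toUnit X ≫ bcSec (Red.geomPt s) χ γ, by rw [Category.assoc]⟩ X (𝟙 X) r
      rw [Category.id_comp] at e2
      exact e2.symm)
  obtain ⟨φ, hφ⟩ := MaxTorCent.exists_iso_of_comm _ hi₀ _ hiK (fun X t r => hcomm X t r)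
  rw [← hφ]
  exact isCentralizerOf_precomp φ.hom hc₀

/-- **The local lifting property of the intersection of `C` with the centralizer of `T`.** -/
theorem exists_lift [Finite Γ] [Smooth G.hom] [IsSeparated G.hom] {i : T ⟶ G} [IsMonHom i] {n : ℕ}
    (hrig : Rigid.IsRigid i n) {c : C ⟶ G} [IsMonHom c] [Mono c] [Smooth C.hom]
    (hn : HomFin.Inv (Nat.card Γ) S) {ψ : Γ →* (𝟙_ (Over S) ⟶ T)} (hψ : Gen ψ n)
    (χ : Γ →* (𝟙_ (Over S) ⟶ C)) (hχ : ∀ γ, χ γ ≫ c = ψ γ ≫ i) {Z : Over S} [GrpObj Z] {z : Z ⟶ G}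
    (hz : Red.IsCentralizerOf i z) [Smooth Z.hom] {B : Type u} [CommRing B] [IsLocalRing B] (I : Ideal B)
    (hI : I * I = ⊥) (x : Spec (CommRingCat.of B) ⟶ S)
    (a₀ : Over.mk (Spec.map (CommRingCat.ofHom (Ideal.Quotient.mk I)) ≫ x) ⟶ C)
    (b₀ : Over.mk (Spec.map (CommRingCat.ofHom (Ideal.Quotient.mk I)) ≫ x) ⟶ Z) (h₀ : a₀ ≫ c = b₀ ≫ z) :
    ∃ (a : Over.mk x ⟶ C) (b : Over.mk x ⟶ Z), a ≫ c = b ≫ z ∧ redMap x I ≫ a = a₀ := by
  have hzm := hz.1
  have hzm' := hz.2.1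
  have hsepC : IsSeparated C.hom := by
    have : Mono c.left := inferInstanceAs (Mono ((Over.forget S).map c))
    have h : IsSeparated (c.left ≫ G.hom) := inferInstance
    rwa [Over.w c] at h
  -- the centralizer of `Γ` in `C`
  obtain ⟨D, _, d, hdm, -, hds, hd⟩ := H831.TorsCent.exists_cent hn χ
  have hdm' := hd.mono
  obtain ⟨e₀, he₀⟩ := (hd.exists_iff _ a₀).2 (fun γ => by
    rw [← cancel_mono c, MonObj.mul_comp, MonObj.mul_comp, Category.assoc, hχ, h₀]
    have h1 := (hz.2.2 _ (b₀ ≫ z)).1 ⟨b₀, rfl⟩ _ (𝟙 _) (toUnit _ ≫ ψ γ)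
    rw [Category.id_comp, Category.assoc] at h1
    exact h1)
  obtain ⟨e, he⟩ := HomFin.exists_lift_pt I hI x e₀
  obtain ⟨w, hw⟩ := HomFin.exists_lift_pt I hI x b₀
  have hy := (hd.exists_iff _ (e ≫ d)).1 ⟨e, rfl⟩
  have hwz := (hz.2.2 _ (w ≫ z)).1 ⟨w, rfl⟩
  -- the difference
  let v : Over.mk x ⟶ G := (w ≫ z)⁻¹ * (e ≫ d ≫ c)
  have hv1 : redMap x I ≫ v = 1 := by
    have h1 : redMap x I ≫ w ≫ z = b₀ ≫ z := by rw [← Category.assoc, hw]
    have h2 : redMap x I ≫ e ≫ d ≫ c = b₀ ≫ z := by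
      rw [← Category.assoc, he, ← Category.assoc, he₀, h₀]
    rw [MonObj.comp_mul, GrpObj.comp_inv, h1, h2, inv_mul_cancel]
  have hv2 : ∀ γ, v * (toUnit _ ≫ ψ γ ≫ i) = (toUnit _ ≫ ψ γ ≫ i) * v := by
    intro γ
    have h1 : Commute (w ≫ z) (toUnit _ ≫ ψ γ ≫ i) := by
      have := hwz _ (𝟙 _) (toUnit _ ≫ ψ γ)
      rw [Category.id_comp, Category.assoc] at this
      exact this
    have h2 : Commute (e ≫ d ≫ c) (toUnit _ ≫ ψ γ ≫ i) := by
      have := congrArg (fun k => k ≫ c) (hy γ)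
      simp only [MonObj.mul_comp, Category.assoc, hχ] at this
      exact this
    exact (h1.inv_left.mul_left h2).eq
  have hv3 := hrig B I hI x v hv1 (fun X y t ht => hψ.comm hv2 y t ht)
  obtain ⟨b, hb⟩ := (hz.2.2 _ (e ≫ d ≫ c)).2 (fun X y t => by
    have h1 : Commute (y ≫ v) (t ≫ i) := hv3 X y t
    have h2 : Commute (y ≫ w ≫ z) (t ≫ i) := hwz X y t
    have h3 : y ≫ e ≫ d ≫ c = (y ≫ w ≫ z) * (y ≫ v) := by
      rw [← MonObj.comp_mul]
      simp only [v]
      rw [mul_inv_cancel_left]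
    rw [h3]
    exact (h2.mul_left h1).eq)
  exact ⟨e ≫ d, b, by rw [Category.assoc, hb], by rw [← Category.assoc, he, he₀]⟩

/-- **A Cartan subgroup containing enough torsion of a maximal torus is its centralizer.** -/
theorem isCentralizerOf [Finite Γ] [Smooth G.hom] [IsSeparated G.hom] {i : T ⟶ G}
    (hi : Red.IsMaximalTorus i) {M : Type} [AddCommGroup M] (hsp : Red.IsSplitTorusWith M T) {n : ℕ}
    (hrig : Rigid.IsRigid i n) {c : C ⟶ G} (hc : SGA3x.IsCartan c)
    (hn : HomFin.Inv (Nat.card Γ) S) {ψ : Γ →* (𝟙_ (Over S) ⟶ T)} (hψ : Gen ψ n)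
    (χ : Γ →* (𝟙_ (Over S) ⟶ C)) (hχ : ∀ γ, χ γ ≫ c = ψ γ ≫ i) : Red.IsCentralizerOf i c := by
  have h1 := hi.1
  have h2 := hi.2.1
  have h3 := hc.1
  have h4 := hc.2.1
  have h5 := hc.2.2.1
  obtain ⟨Z, _, z, hz, hzcl, hzs, hzfp⟩ := CentSep.exists_smooth_centralizer i hi.2.2.1
  have hz1 := hz.1
  have hz2 := hz.2.1
  have hsq := isPullback_left (IsPullback.of_hasPullback c z)
  have hfp : LocallyOfFinitePresentation (pullback c z).hom := by
    have h6 : LocallyOfFinitePresentation (pullback.fst c z).left := MorphismProperty.of_isPullback hsq.flip hzfp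
    have h7 : LocallyOfFinitePresentation ((pullback.fst c z).left ≫ C.hom) := inferInstance
    rwa [Over.w] at h7
  have hsm : Smooth (pullback c z).hom := by
    apply LocalLift.smooth_of_local_lift
    intro B _ _ I hI α x h
    let α₀ : Over.mk (Spec.map (CommRingCat.ofHom (Ideal.Quotient.mk I)) ≫ x) ⟶ pullback c z := Over.homMk α h.symm
    obtain ⟨a, b, hab, ha⟩ := exists_lift hrig hn hψ χ hχ hz I hI x (α₀ ≫ pullback.fst c z)
      (α₀ ≫ pullback.snd c z) (by rw [Category.assoc, pullback.condition, Category.assoc])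
    have h6 : redMap x I ≫ pullback.lift a b hab = α₀ := by
      rw [← cancel_mono (pullback.fst c z), Category.assoc, pullback.lift_fst, ha]
    exact ⟨(pullback.lift a b hab).left, congrArg CommaMorphism.left h6, Over.w _⟩
  have key : ∀ s : S, ∃ e : Red.bc (Red.geomPt s) C ≅ Red.bc (Red.geomPt s) Z,
      e.hom ≫ (Over.pullback (Red.geomPt s)).map z = (Over.pullback (Red.geomPt s)).map c := fun s =>
    exists_iso_centralizer (isCentralizerOf_fibre hi hsp hrig hc hψ χ hχ s)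
      (SplitBc264.isCentralizerOf_bc (Red.geomPt s) hz)
  have hpt : ∀ s : S, Red.geomPt s (IsLocalRing.closedPoint _) = s := fun s => by
    rw [Scheme.Hom.comp_apply]
    exact Scheme.fromSpecResidueField_apply _ _
  have hfst : IsIso (pullback.fst c z) := by
    refine H799.FibCrit.isIso_of_points _ fun s => ⟨AlgebraicClosure (S.residueField s), inferInstance,
      Red.geomPt s, hpt s, ?_⟩
    obtain ⟨e, he⟩ := key s
    exact isIso_of_isPullback ((IsPullback.of_hasPullback c z).map (Over.pullback (Red.geomPt s))) e.hom he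
  have hsnd : IsIso (pullback.snd c z) := by
    refine H799.FibCrit.isIso_of_points _ fun s => ⟨AlgebraicClosure (S.residueField s), inferInstance,
      Red.geomPt s, hpt s, ?_⟩
    obtain ⟨e, he⟩ := key s
    exact isIso_of_isPullback ((IsPullback.of_hasPullback c z).map (Over.pullback (Red.geomPt s))).flip e.inv
      (by rw [← he, Iso.inv_hom_id_assoc])
  refine ⟨inferInstance, inferInstance, fun X g => ?_⟩
  rw [← hz.2.2 X g]
  constructor
  · rintro ⟨a, rfl⟩
    refine ⟨a ≫ inv (pullback.fst c z) ≫ pullback.snd c z, ?_⟩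
    rw [Category.assoc, Category.assoc, ← pullback.condition, IsIso.inv_hom_id_assoc]
  · rintro ⟨a, rfl⟩
    refine ⟨a ≫ inv (pullback.snd c z) ≫ pullback.fst c z, ?_⟩
    rw [Category.assoc, Category.assoc, pullback.condition, IsIso.inv_hom_id_assoc]

end Groth.Agent.Sga3.H803.CentCore
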