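import Mathlib.RingTheory.RingHom.Etale
import Mathlib.RingTheory.Unramified.Finite
import Mathlib.RingTheory.Etale.Basic
import Mathlib.RingTheory.Algebraic.Integral
import Mathlib.RingTheory.IntegralClosure.IsIntegralClosure.Basic
import Mathlib.FieldTheory.IsAlgClosed.AlgebraicClosure
import Mathlib.RingTheory.Spectrum.Prime.Basic
import Mathlib.RingTheory.LocalRing.ResidueField.Ideal

/-!
# Geometric points of étale algebras over a prime are algebraic over the residue field
-/

set_option autoImplicit false
universe u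

open TensorProduct

namespace Groth.Agent.Sga3.H803.GeomPt

/-- The residue field of an étale algebra at a prime is algebraic over the residue field below. -/
theorem isIntegral_residueField {R B₀ : Type u} [CommRing R] [CommRing B₀] [Algebra R B₀]
    [Algebra.Etale R B₀] (p : Ideal R) [p.IsPrime] (q : Ideal B₀) [q.IsPrime]
    (hq : p = q.comap (algebraMap R B₀)) :
    (Ideal.ResidueField.map p q (algebraMap R B₀) hq).IsIntegral := by
  let _ : Algebra p.ResidueField q.ResidueField :=
    (Ideal.ResidueField.map p q (algebraMap R B₀) hq).toAlgebra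
  have hst : IsScalarTower R p.ResidueField q.ResidueField :=
    IsScalarTower.of_algebraMap_eq fun r => by
      rw [IsScalarTower.algebraMap_apply R B₀ q.ResidueField]
      exact (Ideal.ResidueField.map_algebraMap p q (algebraMap R B₀) hq r).symm
  change (algebraMap p.ResidueField q.ResidueField).IsIntegral
  have hfin : Module.Finite p.ResidueField (p.ResidueField ⊗[R] B₀) :=
    Algebra.FormallyUnramified.finite_of_free _ _
  let f : p.ResidueField ⊗[R] B₀ →ₐ[p.ResidueField] q.ResidueField :=
    Algebra.TensorProduct.lift (Algebra.ofId _ _) (IsScalarTower.toAlgHom R B₀ q.ResidueField)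
      (fun _ _ => Commute.all _ _)
  have hb : ∀ b : B₀, IsIntegral p.ResidueField (algebraMap B₀ q.ResidueField b) := by
    intro b
    have h1 : IsIntegral p.ResidueField ((1 : p.ResidueField) ⊗ₜ[R] b) :=
      (inferInstance : Algebra.IsIntegral p.ResidueField (p.ResidueField ⊗[R] B₀)).isIntegral _
    have h2 := h1.map f
    simpa [f] using h2
  intro z
  obtain ⟨⟨a, s⟩, h⟩ := IsLocalization.surj (nonZeroDivisors (B₀ ⧸ q)) z
  obtain ⟨a, rfl⟩ := Ideal.Quotient.mk_surjective a
  obtain ⟨s', hs'⟩ := Ideal.Quotient.mk_surjective (s : B₀ ⧸ q)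
  have hs0 : algebraMap B₀ q.ResidueField s' ≠ 0 := by
    intro h0
    rw [Ideal.algebraMap_residueField_eq_zero] at h0
    have h1 : (s : B₀ ⧸ q) = 0 := by rw [← hs', Ideal.Quotient.eq_zero_iff_mem]; exact h0
    exact nonZeroDivisors.ne_zero s.2 h1
  have h2 : z * algebraMap B₀ q.ResidueField s' = algebraMap B₀ q.ResidueField a := by
    have := h
    simp only [← hs', Ideal.algebraMap_quotient_residueField_mk] at this
    exact this
  have h3 : z = algebraMap B₀ q.ResidueField a * (algebraMap B₀ q.ResidueField s')⁻¹ := by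
    rw [← h2, mul_assoc, mul_inv_cancel₀ hs0, mul_one]
  rw [h3]
  exact (hb a).mul ((hb s').inv)

/-- **Geometric points of étale algebras over a prime.** -/
theorem exists_geomPoint {R B₀ : Type u} [CommRing R] [CommRing B₀] [Algebra R B₀]
    (h : (algebraMap R B₀).Etale) (p : Ideal R) [p.IsPrime] (q : PrimeSpectrum B₀)
    (hq : q.asIdeal.comap (algebraMap R B₀) = p) :
    ∃ (K : Type u) (_ : Field K) (_ : IsAlgClosed K) (_ : Algebra R K) (κ : B₀ →ₐ[R] K)
      (j : p.ResidueField →ₐ[R] K), RingHom.ker κ = q.asIdeal ∧ j.toRingHom.IsIntegral := by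
  have : Algebra.Etale R B₀ := RingHom.etale_algebraMap.mp h
  let L := q.asIdeal.ResidueField
  let K := AlgebraicClosure L
  let j₀ : p.ResidueField →ₐ[R] L := Ideal.ResidueField.mapₐ p q.asIdeal (Algebra.ofId R B₀) hq.symm
  let κ : B₀ →ₐ[R] K := ((Algebra.ofId L K).restrictScalars R).comp (IsScalarTower.toAlgHom R B₀ L)
  let j : p.ResidueField →ₐ[R] K := ((Algebra.ofId L K).restrictScalars R).comp j₀
  refine ⟨K, inferInstance, inferInstance, inferInstance, κ, j, ?_, ?_⟩
  · ext b
    rw [RingHom.mem_ker]
    change algebraMap L K (algebraMap B₀ L b) = 0 ↔ _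
    rw [map_eq_zero, Ideal.algebraMap_residueField_eq_zero]
  · have h1 : j₀.toRingHom.IsIntegral := isIntegral_residueField p q.asIdeal hq.symm
    have h2 : (algebraMap L K).IsIntegral :=
      (inferInstance : Algebra.IsIntegral L K).isIntegral
    exact RingHom.IsIntegral.trans _ _ h1 h2

end Groth.Agent.Sga3.H803.GeomPt
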