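import Groth.Agent.Sga3B.MT.InfBc

/-!
# Regular infinitesimal automorphisms: scaling by units; spans over residue fields

* `isDiag_smul`, `isReg_smul`: a unit multiple of a regular infinitesimal automorphism is regular.
* `mem_span_of_flat_surj`: if `InfAut` satisfies lifting for `B₀ → B₀/pB₀` (`B₀` flat over `R`, `pB₀ ≠ B₀` at `p`),
  then every infinitesimal automorphism over the residue field `κ(p)` of a prime `p` of `R` is a
  combination of infinitesimal automorphisms over `R`.
-/

set_option autoImplicit false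
set_option linter.unusedSectionVars false
universe u

open TensorProduct TrivSqZeroExt
open Groth.Agent.Sga3B.Cell Groth.Agent.Sga3B.MT

namespace Groth.Agent.Sga3.H803.RegSmul

section smul

variable {idx M : Type} [Fintype idx] [AddCommGroup M] [Module.Free ℤ M] [Module.Finite ℤ M]
variable {P : RootPairing idx ℤ M (Module.Dual ℤ M)} {b : P.Base}
    {R A B₀ : Type u} [CommRing R] [CommRing A] [Algebra R A] [CommRing B₀] [Algebra R B₀]
    [PtGrp R A]

lemma eScale_comp_eInl {B' : Type u} [CommRing B'] [Algebra R B'] (b : B') :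
    (eScale R b).comp (eInl R B') = eInl R B' := by
  ext x <;> simp

/-- `d_{u c} = u d_c` -/
lemma isDiag_smul (D : RCell P b R A B₀) {B : Type u} [CommRing B] [Algebra R B] (φ₀ : B₀ →ₐ[R] B)
    (c : P.rootSpan ℤ →+ B) (x : InfAut R A B) (h : D.IsDiag φ₀ c x) (r : B) :
    D.IsDiag φ₀ ((AddMonoidHom.mulLeft r).comp c) (r • x) := by
  refine ⟨fun {B'} _ _ ψ t => ?_, fun a {B'} _ _ ψ z => ?_⟩
  · rw [InfAut.app_smul, h.1 ψ t, Pt.map_map, eScale_comp_eInl]
  · rw [InfAut.app_smul, h.2 a ψ z, D.uu_nat, ← AlgHom.comp_assoc, eScale_comp_eInl]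
    congr 1
    ext
    · simp
    · simp [mul_assoc]

/-- a unit multiple of a regular infinitesimal automorphism is regular -/
lemma isReg_smul (D : RCell P b R A B₀) {B : Type u} [CommRing B] [Algebra R B] (φ₀ : B₀ →ₐ[R] B)
    (x : InfAut R A B) (h : D.IsReg φ₀ x) (r : B) (hr : IsUnit r) : D.IsReg φ₀ (r • x) := by
  obtain ⟨g, c, y, h1, h2, rfl⟩ := h
  refine ⟨g, _, _, isDiag_smul D φ₀ c y h1 r, fun a => ?_, (InfAut.Ad_smul g r y).symm⟩
  exact hr.mul (h2 a)

end smul

section span

variable {R A : Type u} [CommRing R] [CommRing A] [Algebra R A] [PtGrp R A]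

/-- Descent of membership in a span along a non-zero algebra over a field. -/
theorem mem_span_of_field [Algebra.FinitePresentation R A] {k C : Type u} [Field k] [Algebra R k]
    [CommRing C] [Nontrivial C] [Algebra R C] (j : k →ₐ[R] C) (s : Set (InfAut R A k))
    (x : InfAut R A k)
    (h : InfAut.map j x ∈ Submodule.span C (InfAut.map (A := A) j '' s)) :
    x ∈ Submodule.span k s := by
  let _ : Algebra k C := j.toRingHom.toAlgebra
  have : IsScalarTower R k C := IsScalarTower.of_algebraMap_eq' j.comp_algebraMap.symm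
  have hbc := InfBc.isBaseChange_mapL R A k C
  have e : IsScalarTower.toAlgHom R k C = j := by
    ext b
    rfl
  by_contra hx
  obtain ⟨l, hl1, hl2⟩ := Submodule.exists_le_ker_of_notMem (K := k) (V := InfAut R A k)
    (p := Submodule.span k s) hx
  let g : ↥(infAutSub R A k) →ₗ[k] C := (Algebra.linearMap k C) ∘ₗ (l : InfAut R A k →ₗ[k] k)
  let G : ↥(infAutSub R A C) →ₗ[C] C := hbc.lift g
  have hG0 : ∀ y : ↥(infAutSub R A k), G (InfBc.mapL R A k C y) = g y := fun y => hbc.lift_eq g y
  obtain ⟨G', hG'add, hG'smul, hG'⟩ : ∃ G' : InfAut R A C → C,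
      (∀ y z, G' (y + z) = G' y + G' z) ∧ (∀ (c : C) y, G' (c • y) = c * G' y) ∧
        ∀ y : InfAut R A k, G' (InfAut.map (A := A) j y) = algebraMap k C (l y) := by
    refine ⟨fun y => G y, fun y z => G.map_add y z, fun c y => G.map_smul c y, fun y => ?_⟩
    have h1 := hG0 y
    have h2 : (InfBc.mapL R A k C y : InfAut R A C) = InfAut.map (A := A) j y := by
      rw [← e]
      rfl
    have h3 : ∀ z w : InfAut R A C, z = w → G z = G w := fun z w h => by rw [h]
    exact (h3 _ _ h2).symm.trans h1
  have hz0 : G' 0 = 0 := by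
    have := hG'smul 0 0
    rwa [zero_smul, zero_mul] at this
  have hle : ∀ z ∈ Submodule.span C (InfAut.map (A := A) j '' s), G' z = 0 := by
    intro z hz
    induction hz using Submodule.span_induction with
    | mem y hy =>
      obtain ⟨y, hy, rfl⟩ := hy
      rw [hG', hl2 (Submodule.subset_span hy), map_zero]
    | zero => exact hz0
    | add y z _ _ hy hz => rw [hG'add, hy, hz, add_zero]
    | smul b y _ hy => rw [hG'smul, hy, mul_zero]
  have h0 := hle _ h
  rw [hG', map_eq_zero] at h0
  exact hl1 h0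

/-- a span is mapped to a span -/
lemma map_mem_span {B C : Type u} [CommRing B] [Algebra R B] [CommRing C] [Algebra R C]
    (ψ : B →ₐ[R] C) (s : Set (InfAut R A B)) (x : InfAut R A B) (h : x ∈ Submodule.span B s) :
    InfAut.map ψ x ∈ Submodule.span C (InfAut.map (A := A) ψ '' s) := by
  induction h using Submodule.span_induction with
  | mem y hy => exact Submodule.subset_span ⟨y, hy, rfl⟩
  | zero => rw [map_zero]; exact Submodule.zero_mem _
  | add y z _ _ hy hz => rw [map_add]; exact Submodule.add_mem _ hy hz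
  | smul b y _ hy => rw [InfAut.map_smul]; exact Submodule.smul_mem _ _ hy

/-- **Infinitesimal automorphisms over the residue field of a prime are combinations of
infinitesimal automorphisms over `R`**, given local liftings. -/
theorem mem_span_residueField [Algebra.FinitePresentation R A] (p : Ideal R) [p.IsPrime]
    (B₀ : Type u) [CommRing B₀] [Algebra R B₀] [Module.Flat R B₀]
    (hs : Function.Surjective
      (InfAut.map (A := A) (Ideal.Quotient.mkₐ R (p.map (algebraMap R B₀)))))
    {K : Type u} [Field K] [Algebra R K] (κ : B₀ →ₐ[R] K) (j : p.ResidueField →ₐ[R] K)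
    (x : InfAut R A p.ResidueField) :
    x ∈ Submodule.span p.ResidueField (Set.range (InfAut.map (A := A) (Algebra.ofId R p.ResidueField))) := by
  let k := p.ResidueField
  let B' := B₀ ⧸ p.map (algebraMap R B₀)
  have hpK : ∀ r ∈ p, algebraMap R K r = 0 := by
    intro r hr
    rw [← j.commutes, Ideal.algebraMap_residueField_eq_zero.mpr hr, map_zero]
  let C := B' ⊗[R ⧸ p] k
  let ψ : B' →ₐ[R] C :=
    (Algebra.TensorProduct.includeLeft : B' →ₐ[R ⧸ p] B' ⊗[R ⧸ p] k).restrictScalars R
  let i : k →ₐ[R] C :=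
    (Algebra.TensorProduct.includeRight : k →ₐ[R ⧸ p] B' ⊗[R ⧸ p] k).restrictScalars R
  have hfl : Module.Flat (R ⧸ p) k := IsLocalization.flat k (nonZeroDivisors (R ⧸ p))
  have hψ : ψ.toRingHom.Flat := by
    change (algebraMap B' C).Flat
    exact RingHom.flat_algebraMap_iff.mpr inferInstance
  let κ' : B' →ₐ[R] K := Ideal.Quotient.liftₐ _ κ (by
    intro a ha
    have : p.map (algebraMap R B₀) ≤ RingHom.ker κ := by
      rw [Ideal.map_le_iff_le_comap]
      intro r hr
      change κ (algebraMap R B₀ r) = 0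
      rw [κ.commutes, hpK r hr]
    exact this ha)
  have hC : Nontrivial C := by
    let _ : Algebra (R ⧸ p) K := (Ideal.Quotient.lift p (algebraMap R K) hpK).toAlgebra
    let κ'' : B' →ₐ[R ⧸ p] K :=
      { κ'.toRingHom with
        commutes' := fun r => by
          obtain ⟨r, rfl⟩ := Ideal.Quotient.mk_surjective r
          exact κ'.commutes r }
    let j'' : k →ₐ[R ⧸ p] K :=
      { j.toRingHom with
        commutes' := fun r => by
          obtain ⟨r, rfl⟩ := Ideal.Quotient.mk_surjective r
          exact j.commutes r }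
    exact (Algebra.TensorProduct.lift κ'' j'' (fun _ _ => Commute.all _ _)).toRingHom.domain_nontrivial
  apply mem_span_of_field i
  -- first step: over `B'`
  have h1 := InfAut.mem_span_of_flat (A := A) ψ hψ (InfAut.map i x)
  refine Submodule.span_le.mpr ?_ h1
  rintro _ ⟨y, rfl⟩
  obtain ⟨y, rfl⟩ := hs y
  have h2 := InfAut.mem_span_of_flat (A := A) (Algebra.ofId R B₀)
    (by
      change (algebraMap R B₀).Flat
      exact RingHom.flat_algebraMap_iff.mpr inferInstance) y
  rw [InfAut.map_map]
  have h3 := map_mem_span (ψ.comp (Ideal.Quotient.mkₐ R (p.map (algebraMap R B₀)))) _ y h2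
  refine Submodule.span_mono ?_ h3
  rintro _ ⟨_, ⟨ξ, rfl⟩, rfl⟩
  refine ⟨_, ⟨ξ, rfl⟩, ?_⟩
  have e : ∀ φ₁ φ₂ : R →ₐ[R] C, φ₁ = φ₂ := fun φ₁ φ₂ =>
    AlgHom.ext fun r => (φ₁.commutes r).trans (φ₂.commutes r).symm
  rw [InfAut.map_map, InfAut.map_map, e (i.comp _)]

/-- clearing denominators -/
theorem exists_smul_eq_map (p : Ideal R) [hp : p.IsPrime] (x : InfAut R A p.ResidueField)
    (h : x ∈ Submodule.span p.ResidueField
      (Set.range (InfAut.map (A := A) (Algebra.ofId R p.ResidueField)))) :
    ∃ (w : R) (ξ : InfAut R A R), w ∉ p ∧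
      InfAut.map (Algebra.ofId R p.ResidueField) ξ = algebraMap R p.ResidueField w • x := by
  induction h using Submodule.span_induction with
  | mem y hy =>
    obtain ⟨ξ, rfl⟩ := hy
    exact ⟨1, ξ, fun h => hp.ne_top ((Ideal.eq_top_iff_one p).mpr h),
      by rw [map_one, one_smul]⟩
  | zero => exact ⟨1, 0, fun h => hp.ne_top ((Ideal.eq_top_iff_one p).mpr h),
      by rw [map_zero, smul_zero]⟩
  | add y z _ _ hy hz =>
    obtain ⟨w, ξ, hw, h1⟩ := hy
    obtain ⟨w', ξ', hw', h2⟩ := hz
    refine ⟨w * w', w' • ξ + w • ξ', fun h => (hp.mem_or_mem h).elim hw hw', ?_⟩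
    rw [map_add, InfAut.map_smul, InfAut.map_smul, h1, h2, map_mul, smul_add, smul_smul, smul_smul]
    congr 2
    exact mul_comm _ _
  | smul c y _ hy =>
    obtain ⟨w, ξ, hw, h1⟩ := hy
    obtain ⟨⟨a, s⟩, h⟩ := IsLocalization.surj (nonZeroDivisors (R ⧸ p)) c
    obtain ⟨a, rfl⟩ := Ideal.Quotient.mk_surjective a
    obtain ⟨s', hs'⟩ := Ideal.Quotient.mk_surjective (s : R ⧸ p)
    have hs0 : s' ∉ p := by
      intro h0
      have h1 : (s : R ⧸ p) = 0 := by rw [← hs', Ideal.Quotient.eq_zero_iff_mem]; exact h0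
      exact nonZeroDivisors.ne_zero s.2 h1
    have h2 : c * algebraMap R p.ResidueField s' = algebraMap R p.ResidueField a := by
      have := h
      simp only [← hs', Ideal.algebraMap_quotient_residueField_mk] at this
      exact this
    refine ⟨s' * w, a • ξ, fun h => (hp.mem_or_mem h).elim hs0 hw, ?_⟩
    rw [InfAut.map_smul, h1]
    change algebraMap R p.ResidueField a • _ = _
    rw [← h2, smul_smul, smul_smul, map_mul]
    congr 1
    ring

end span

end Groth.Agent.Sga3.H803.RegSmul
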