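import Groth.Agent.Sga3B.MT.Final824
import Groth.Agent.Sga3.H803.RegSmul
import Groth.Agent.Sga3.H803.GeomPt

/-!
# Charts at an arbitrary point of the base

`exists_chart`: for a reductive group `G` over `Spec R` and a prime `p` of `R` there are an
infinitesimal automorphism `ξ` over `R` and a chart of `ξ` (an étale `R`-algebra over which `ξ` is
regular with respect to a splitting) whose image contains `p`.
-/

set_option autoImplicit false
universe u

open CategoryTheory MonoidalCategory CartesianMonoidalCategory MonObj GrpObj AlgebraicGeometry Limits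
open TensorProduct
open Groth.Agent.Sga3B.Cell Groth.Agent.Sga3B.MT

namespace Groth.Agent.Sga3.H803.ChartAt

open Groth.Agent.Sga3B Groth.Agent.Sga3B.BcPts Groth.Agent.Sga3B.Parab Groth.Agent.Sga3B.ResAlg
open Groth.Agent.Books.AffBridge

variable {R : Type u} [CommRing R] {G : Over (Spec (CommRingCat.of R))} [GrpObj G]
  {A : Type u} [CommRing A] [Algebra R A] [PtGrp R A] (Q : GPts G A)

theorem exists_chart [Algebra.Smooth R A] [Algebra.FinitePresentation R A] (hdom : MT.GeomDom R A)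
    (hstr : StructHyp R A) (hreg : RegHyp R A) (hpin : PinHyp G) (hmodel : ModelHyp.{u})
    (p : PrimeSpectrum R) :
    ∃ (ξ : InfAut R A R) (K : Chart Q ξ), p ∈ Set.range K.f := by
  obtain ⟨B₀, _, _, het, ⟨q, hq⟩, ⟨D⟩⟩ := hpin p
  have hq' : q.asIdeal.comap (algebraMap R B₀) = p.asIdeal := congrArg PrimeSpectrum.asIdeal hq
  obtain ⟨model⟩ := hmodel D B₀ (𝟙 _)
  obtain ⟨F, hF⟩ := exists_rcell Q D.toSplitRed D.base model
  obtain ⟨K, _, _, _, κ, j, hker, hint⟩ := GeomPt.exists_geomPoint het p.asIdeal q hq'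
  obtain ⟨x, hx⟩ := hreg.reg (F.bc κ) j hint
  have hetB : Algebra.Etale R B₀ := RingHom.etale_algebraMap.mp het
  obtain ⟨w, ξ, hw, hξ⟩ := RegSmul.exists_smul_eq_map p.asIdeal x
    (RegSmul.mem_span_residueField p.asIdeal B₀
      (hstr.surj F (AlgHom.id R B₀) _ Ideal.Quotient.mk_surjective) κ j x)
  have e1 : κ.comp (Algebra.ofId R B₀) = j.comp (Algebra.ofId R p.asIdeal.ResidueField) :=
    AlgHom.ext fun r => (κ.commutes r).trans (j.commutes r).symm
  have hu : IsUnit (j (algebraMap R p.asIdeal.ResidueField w)) := by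
    rw [isUnit_iff_ne_zero, map_ne_zero]
    intro h0
    exact hw (Ideal.algebraMap_residueField_eq_zero.mp h0)
  have h1 : F.IsReg κ (InfAut.map κ (InfAut.map (Algebra.ofId R B₀) ξ)) := by
    rw [InfAut.map_map, e1, ← InfAut.map_map, hξ, InfAut.map_smul]
    exact RegSmul.isReg_smul (F.bc κ) (AlgHom.id R K) _ hx _ hu
  obtain ⟨B₁, _, _, ψ, hψ, ⟨q₁, hq₁⟩, g, c, y, hy, hc, heq⟩ := F.exists_etale'
    (fun φ c => F.exists_diag hdom φ c)
    (fun φ c y y' hy hy' => F.ext_infAut hdom φ y y'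
      (fun ψ t => (hy.1 ψ t).trans (hy'.1 ψ t).symm)
      (fun a _ _ _ ψ z => (hy.2 a ψ z).trans (hy'.2 a ψ z).symm))
    (fun φ x => hstr.zero F φ x)
    (fun φ ψ h1 h2 ξ g₀ c₀ y₀ h3 h4 h5 => hstr.lift F φ ψ h1 h2 ξ g₀ c₀ y₀ h3 h4 h5)
    (InfAut.map (Algebra.ofId R B₀) ξ) K κ h1
  refine ⟨ξ, {
    B₀ := B₀
    D := D.toSplitRed
    b := D.base
    F := F
    hF := hF
    B₁ := B₁
    ψ := ψ
    et₀ := het
    et₁ := hψ
    g := g
    c := c
    y := y
    diag := hy
    reg := hc
    eq := ?_ }, q₁, ?_⟩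
  · have e2 : ψ.comp (Algebra.ofId R B₀) = Algebra.ofId R B₁ :=
      AlgHom.ext fun r => ψ.commutes r
    rw [← heq, InfAut.map_map, e2]
  · rw [Chart.f_eq]
    apply PrimeSpectrum.ext
    change q₁.asIdeal.comap (algebraMap R B₁) = p.asIdeal
    have e3 : algebraMap R B₁ = ψ.toRingHom.comp (algebraMap R B₀) := ψ.comp_algebraMap.symm
    rw [e3, ← Ideal.comap_comap, hq₁, hker, hq']

/-- Charts at all points for reductive groups. -/
theorem exists_chart_of_isReductive {R : Type u} [CommRing R] {G : Over (Spec (CommRingCat.of R))}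
    [GrpObj G] (hG : Red.IsReductive G) (hsplit : ∀ s, IsomPin848.SplitNear G s)
    (p : PrimeSpectrum R) :
    ∃ (A : Type u) (_ : CommRing A) (_ : Algebra R A) (_ : PtGrp R A) (_ : Algebra.Smooth R A)
      (_ : MT.GeomDom R A) (Q : GPts G A) (ξ : InfAut R A R) (K : Chart Q ξ), p ∈ Set.range K.f := by
  obtain ⟨A, _, _, ⟨e⟩⟩ := AdCentre.exists_specIso G hG.1
  let _ : PtGrp R A := ptGrpOf (A := A) e
  have hp : IsPullback e.inv.left (Spec.map (CommRingCat.ofHom (algebraMap R A))) G.hom (𝟙 _) := by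
    have : IsIso e.inv.left := inferInstanceAs (IsIso ((Over.forget _).map e.inv))
    exact IsPullback.of_horiz_isIso_mono ⟨by rw [Category.comp_id]; exact Over.w e.inv⟩
  have := hG.2.1
  have h1 : Algebra.Smooth R A := ChartFib.smooth_of_isPullback hp
  have h2 : Algebra.FinitePresentation R A := ChartFib.finitePresentation_of_isPullback hp
  have hdom : MT.GeomDom R A := fun K _ _ => ChartFib.isDomain hG hp K
  obtain ⟨ξ, K, h⟩ := exists_chart (gptsOf (A := A) e) hdom (structHyp hdom) (regHyp hdom)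
    (fun s => exists_pinning_affine G s (hsplit s)) modelHyp p
  exact ⟨A, inferInstance, inferInstance, inferInstance, h1, hdom, gptsOf (A := A) e, ξ, K, h⟩

end Groth.Agent.Sga3.H803.ChartAt
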